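import Cfsg.Agent.H622.Der.NscTF4
import Cfsg.Agent.H257.El.Eng

/-!
# S3500: the row `²F₄(q)` (helper622)

`row_TF4_of` : the row from the `PGap` statement for the maximal subgroups.
-/

set_option autoImplicit false
set_option maxRecDepth 100000

namespace Cfsg.Agent.H622.Der

open Subgroup Cfsg Cfsg.Lie Cfsg.Agent.H439.Der Cfsg.Agent.H938.Sax Cfsg.Agent.OrdDiv
open Cfsg.Agent.H257.El (Top card_quot_mul Known exists_top)

universe u

/-- the index of the core if the group at the top is commutative -/
theorem card_quot_dvd {R : Type*} [Group R] [Finite R] {r : ℕ} {O : Subgroup R} [O.Normal] {N : Subgroup (R ⧸ O)}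
    (h : Top R r O N) (hc : ∀ a b : N, a * b = b * a) : Nat.card (R ⧸ O) ∣ r * (r - 1) := by
  have hN := h.normal
  have hNr := h.card_of_comm hc
  have hr' : Fact r.Prime := ⟨h.prime⟩
  have hNc : IsCyclic N := isCyclic_of_prime_card hNr
  have hcen := h.centralizer_eq hc
  have hA : Nat.card (MulAut N) = r - 1 := by
    have e := IsCyclic.mulAutMulEquiv N
    rw [hNr] at e
    rw [Nat.card_congr e.toEquiv, Nat.card_eq_fintype_card, ZMod.card_units_eq_totient, Nat.totient_prime h.prime]
  let φ : (R ⧸ O) →* MulAut N := MulAut.conjNormal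
  have hker : φ.ker = N := by
    refine Eq.trans ?_ hcen
    ext g
    rw [MonoidHom.mem_ker, mem_centralizer_iff]
    constructor
    · intro hg n hn
      have h2 : (φ g) ⟨n, hn⟩ = ⟨n, hn⟩ := by rw [hg]; rfl
      have h3 : g * n * g⁻¹ = n := congrArg Subtype.val h2
      calc n * g = (g * n * g⁻¹) * g := by rw [h3]
        _ = _ := by group
    · intro hg
      ext n
      show g * (n : R ⧸ O) * g⁻¹ = n
      rw [← hg n n.2, mul_inv_cancel_right]
  have h1 := Subgroup.card_mul_index φ.ker
  rw [hker, hNr] at h1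
  rw [← h1]
  refine Nat.mul_dvd_mul_left _ ?_
  have h2 : φ.ker.index = Nat.card φ.range := Subgroup.index_ker φ
  rw [hker] at h2
  rw [h2, ← hA]
  exact Subgroup.card_subgroup_dvd_card _

section Eight

variable {T : Type u} [Group T] [Finite T]

/-- the factors of the order without 37 -/
def l8 : List (ℕ × ℕ) := [(2, 36), (3, 5), (5, 2), (7, 2), (13, 2), (19, 1), (109, 1)]

/-- **A subgroup of `²F₄(8)` of order divisible by 109 and not by 37 has order not divisible by `3 ^ 5`.** -/
theorem not_dvd_243 (tab : OrderTable.{u}) (known : Known.{u}) (hn : Nat.card T = 264905352699586176614400)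
    (hno : ∀ z : T, orderOf z ≠ 109 * 3) {R : Subgroup T} (h109 : 109 ∣ Nat.card R) (h37 : ¬ 37 ∣ Nat.card R) :
    ¬ 3 ^ 5 ∣ Nat.card R := by
  have hRn : Nat.card R ∣ 7159604127015842611200 := by
    have h1 : Nat.card R ∣ 7159604127015842611200 * 37 := by
      have h2 := Subgroup.card_subgroup_dvd_card R
      rw [hn] at h2
      exact h2
    exact Nat.Coprime.dvd_of_dvd_mul_right ((Nat.Prime.coprime_iff_not_dvd (by norm_num)).2 h37).symm h1
  have hv : valid l8 7159604127015842611200 = true := by decide +kernel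
  have hsq : ¬ 109 ^ 2 ∣ Nat.card R := fun h => absurd (h.trans hRn) (by norm_num)
  have hp109 : Nat.Prime 109 := by norm_num
  obtain ⟨O, hO, N, h⟩ := exists_top hp109 h109 hsq
  have hRO := card_quot_mul O
  have h3O : ¬ 3 ∣ Nat.card O := by
    refine h.not_dvd_core Nat.prime_three (by norm_num) (fun z => ?_) (fun b hb hd => ?_)
    · rw [← Subgroup.orderOf_coe]
      exact hno z
    · exact Cfsg.Agent.H257.El.okPow_spec hv (by decide +kernel) Nat.prime_three hb (hd.trans hRn)
  intro h243
  have hsim := h.simple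
  by_cases hc : ∀ a b : N, a * b = b * a
  · have h1 := card_quot_dvd h hc
    rw [← hRO] at h243
    have h2 : 3 ^ 5 ∣ Nat.card (R ⧸ O) :=
      Nat.Coprime.dvd_of_dvd_mul_right
        (Nat.Coprime.pow_left 5 ((Nat.Prime.coprime_iff_not_dvd Nat.prime_three).2 h3O)) h243
    exact absurd (h2.trans h1) (by norm_num)
  · have hNR : Nat.card N ∣ Nat.card R := by
      refine (Subgroup.card_subgroup_dvd_card N).trans ?_
      rw [← hRO]
      exact dvd_mul_right _ _
    obtain ⟨g, hg, -, hgc⟩ := exists_good tab (known N) hc hv (hNR.trans hRn)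
    have h1 : ((cands l8 7159604127015842611200).all fun g => ordN g % 109 != 0) = true := by decide +kernel
    rw [List.all_eq_true] at h1
    have h2 := h1 g hg
    rw [← hgc, Nat.mod_eq_zero_of_dvd h.dvd] at h2
    exact absurd h2 (by decide)

end Eight

section Row

variable {K : Type u} [Field K] [Fintype K] {m : ℕ}

/-- **the row `²F₄(q)`** -/
theorem row_TF4_of (tab : OrderTable.{u}) (known : Known.{u}) (hm : 1 ≤ m) (hK : Fintype.card K = 2 ^ (2 * m + 1))
    (hpg : ∀ M : Subgroup ↥(twistedF4 K (2 ^ m)), IsCoatom M → PGap ↥(twistedF4 K (2 ^ m)) M) :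
    Row ↥(twistedF4 K (2 ^ m)) := by
  intro M hM
  have hT : Finite ↥(twistedF4 K (2 ^ m)) := inferInstance
  obtain ⟨v, hv, hvd, hvM⟩ := hpg M hM
  by_cases hSC : SC ↥(twistedF4 K (2 ^ m)) v
  swap
  · exact Or.inl (Two.of_not_dvd hvM hSC)
  obtain ⟨rfl, rfl⟩ := nsc_TF4 hm hK hv hvd hSC
  have hcard : Nat.card ↥(twistedF4 K (2 ^ 1)) = 264905352699586176614400 := by
    rw [Cfsg.Agent.S1068.result hK]
    norm_num
  have h109p : Nat.Prime 109 := by norm_num
  by_cases h109 : 109 ∣ Nat.card M
  · right
    refine ⟨?_, ?_⟩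
    · have h1 : Nm (2 ^ 1) = 37 := by decide
      have h2 := cyc_m hK hv (by rw [h1])
      rw [h1] at h2
      obtain ⟨x, hx, hC, hN⟩ := card_norm hv h2 (K := 7159604127015842611200) (n := 12) (by rw [hcard])
        (by decide) (by norm_num) (by norm_num)
      exact twoT_of_norm hv hvM hx hC (n := 12) (by rw [hN]) (by norm_num)
    · refine noSyl_of (s := 3) (k := 1) (e := 5) Nat.prime_three ?_ ?_ ?_
      · rw [Cfsg.Agent.S2128.result hm hK]
        norm_num
      · rw [hcard]; norm_num
      · have h1 : Np (2 ^ 1) = 109 := by decide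
        have h2 := cyc_p hK h109p (by rw [h1])
        rw [h1] at h2
        exact not_dvd_243 tab known hcard (no_ord h109p Nat.prime_three (by norm_num) h2) h109 hvM
  · exact Or.inl (Two.of_two_primes hv h109p (by norm_num) hvd (by rw [hcard]; norm_num) hvM h109)

end Row

end Cfsg.Agent.H622.Der
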