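import Cfsg.Agent.H622.Der.F42
import Cfsg.Agent.H622.Der.RowTF4
import Cfsg.Agent.ChevalleyStructure.FieldIso

/-!
# S3500: the rows `F₄(q)`, `²F₄(q)` for the classes of groups (helper622)

* `row_f4_of` : from the `PGap` statement for the maximal subgroups of `F₄(q)`, `q > 2`
* `row_2f4_of` : from the `PGap` statement for the maximal subgroups of `²F₄(q)`
-/

set_option autoImplicit false
set_option maxRecDepth 10000

namespace Cfsg.Agent.H622.Der

open Subgroup Cfsg Cfsg.Lie Cfsg.Agent.H439.Der Cfsg.Agent.H938.Sax Cfsg.Agent.OrdDiv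
open Cfsg.Agent.H257.El (Known)
open Cfsg.Agent.FourTwo.Base (LL)

universe u

/-- `PGap` for the maximal subgroups of `F₄(q)`, `q > 2` -/
def GapF4 : Prop := ∀ (F : Type) [Field F] [Fintype F], 2 < Fintype.card F →
  ∀ M : Subgroup ↥(chevF4.group F), IsCoatom M → PGap ↥(chevF4.group F) M

/-- `PGap` for the maximal subgroups of `²F₄(q)` -/
def GapTF4 : Prop := ∀ (K : Type) [Field K] [Fintype K] (m : ℕ), 1 ≤ m → Fintype.card K = 2 ^ (2 * m + 1) →
  ∀ M : Subgroup ↥(twistedF4 K (2 ^ m)), IsCoatom M → PGap ↥(twistedF4 K (2 ^ m)) M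

theorem row_congr_LL {T : Type u} [Group T] (e2 : T ≃* LL) (h4 : Row LL) : Row T :=
  Row.congr (T := LL) (S := T) e2.symm h4

theorem row_f4_of (tab : OrderTable.{0}) (known : Known.{0}) (hpg : GapF4) {T : Type u} [Group T]
    (h : IsoF4 T) : Row T := by
  obtain ⟨F, _, _, ⟨e⟩⟩ := h
  by_cases hF : 2 < Fintype.card F
  · exact (Row.of_pgap (nsc_F4 hF) (hpg F hF)).congr e.symm
  · have h2 : Fintype.card F = 2 := by
      have := Fintype.one_lt_card (α := F)
      omega
    have h3 : Fintype.card F = Fintype.card (ZMod 2) := by rw [h2, ZMod.card]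
    have φ : F ≃+* ZMod 2 := FiniteField.ringEquivOfCardEq h3
    have e2 := ChevalleyStructure.FieldIso.groupEquiv chevF4 φ
    exact row_congr_LL (e.trans e2) (row_F42 tab known)

theorem row_2f4_of (tab : OrderTable.{0}) (known : Known.{0}) (hpg : GapTF4) {T : Type u} [Group T]
    (h : Iso2F4 T) : Row T := by
  obtain ⟨K, _, _, m, hm, hK, ⟨e⟩⟩ := h
  exact (row_TF4_of tab known hm hK (hpg K m hm hK)).congr e.symm

end Cfsg.Agent.H622.Der
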