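import Cfsg.Agent.H622.Der.NscF4
import Cfsg.Agent.H632.Der.Rows

/-!
# S3502: `F₄(q)`, `q ≥ 3`: no prime is `SCC` (helper622)
-/

set_option autoImplicit false

namespace Cfsg.Agent.H622.Der

open CoxeterSystem Subgroup Cfsg Cfsg.Lie Cfsg.Lie.ChevalleyDatum Cfsg.Agent.H439.Der Cfsg.Agent.H938.Sax
  Cfsg.Agent.H946.Num
open Cfsg.Agent.ChevalleyStructure.CoxeterGeomTypes
open Cfsg.Agent.Nodes.RGDChev
open Cfsg.Agent.BpExc.RowsUntw Cfsg.Agent.BpExc.FamInst
open Cfsg.Agent.H378 Cfsg.Agent.H378.SmallTor Cfsg.Agent.H378.AdjTab Cfsg.Agent.H378.CycTab Cfsg.Agent.H378.ExcAdj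
open Cfsg.Agent.H129.CycCard (CycCard card_F4_8 card_F4_12)
open Cfsg.Agent.H632.Der (not_SCC_of_count adjp_row adjp_split ntc_of exists_four not_SCC_of_two_adj)

universe u

/-- **a cyclic torus of order `m`, `|T| = m K`, `K ≡ n mod v`** -/
theorem not_SCC_of_cyc {T : Type*} [Group T] [Finite T] {v m : ℕ} (hv : v.Prime) (h : CycCard T v m 1) {K n o : ℕ}
    (hK : Nat.card T = m * K) (hn : K ≡ n [MOD v]) (h0 : 0 < n) (hnv : n < v) (hO : Nat.card (Cfsg.Out T) ≤ o)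
    (hlt : v * (2 * (o * n)) < m * (v - 1)) : ¬ SCC T v := by
  obtain ⟨C, hc, h1, h2, h3, h4⟩ := h
  rw [one_mul] at h2
  have hm : Nat.card ↥C = m := Nat.dvd_antisymm h1 h2
  have hvK : ¬ v ∣ K := by
    intro hd
    have h5 : n ≡ 0 [MOD v] := hn.symm.trans (Nat.modEq_zero_iff_dvd.2 hd)
    have h6 := Nat.le_of_dvd h0 (Nat.modEq_zero_iff_dvd.1 h5)
    omega
  have hcen : ∀ x ∈ C, orderOf x = v → centralizer ({x} : Set T) = C := fun x hx hxo =>
    le_antisymm (h4 x hx hxo) (Cfsg.Agent.H129.CycT.le_centralizer_of_cyclic hc hx)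
  refine not_SCC_of_count hv hc hm (hm ▸ h3) hcen (fun x hx hxo => ?_) hO hlt
  have h5 := Cfsg.Agent.H946.Rad.card_normalizer (G := T) hv hxo (by rw [hcen x hx hxo]; exact hc) (N := m)
    (by rw [hcen x hx hxo, hm]) hK hvK hn h0 hnv
  have h6 := card_conjPow_mul x
  rw [hcen x hx hxo, hm, h5, mul_comm m n] at h6
  have hm0 : 0 < m := by rw [← hm]; exact Nat.card_pos
  exact (Nat.eq_of_mul_eq_mul_right hm0 h6).le

section F4

/-- adjacency to the characteristic and to 3 -/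
theorem adjp_F4 (F : Type u) [Field F] [Finite F] {p : ℕ} [Fact p.Prime] [CharP F p] {r : ℕ} (hr : r.Prime)
    (hd : r ∣ Nat.card ↥(chevF4.group F)) (h2 : r ≠ 2) (hrp : r ≠ p) (hrq : ¬ r ∣ Nat.card F) :
    (H94.PG.Adj ↥(chevF4.group F) r p ∧ (p = 2 → r ≠ 3 → H94.PG.Adj ↥(chevF4.group F) r 3)) ∨
      od (Nat.card F) r = 8 ∨ od (Nat.card F) r = 12 := by
  let cs : CoxeterSystem CoxeterMatrix.F₄ CoxeterMatrix.F₄.Group := CoxeterMatrix.F₄.toCoxeterSystem
  have := finite_W f4T cs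
  have hq : 1 ≤ Nat.card F := Nat.card_pos
  have hn1 : ∀ {m : ℕ}, m ≠ 1 → od (Nat.card F) r = m → ¬ r ∣ Nat.card F - 1 := by
    intro m hm h3 h4
    have h5 : od (Nat.card F) r ∣ 1 := od_dvd hq (by rw [pow_one]; exact h4)
    rw [h3] at h5
    exact hm (Nat.dvd_one.1 h5)
  rcases od_F4 hr hd with h | h | h | h | h | h | h | h
  · exact absurd h hrq
  · exact Or.inl (adjp_split f4T cs AdjF4.orth hr h2 hrp (dvd_of_od_one hq h))
  · exact Or.inl (adjp_row f4T cs inv_F4 one_ne_zero AdjF4.hA AdjF4.lt_nroots AdjF4.row2 hr hrp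
      (hn1 (by decide) h) (dvd2 hr h))
  · exact Or.inl (adjp_row f4T cs inv_F4 one_ne_zero AdjF4.hA AdjF4.lt_nroots AdjF4.row3 hr hrp
      (hn1 (by decide) h) (dvd3 hr h))
  · exact Or.inl (adjp_row f4T cs inv_F4 one_ne_zero AdjF4.hA AdjF4.lt_nroots AdjF4.row4 hr hrp
      (hn1 (by decide) h) (dvd4 hr h))
  · exact Or.inl (adjp_row f4T cs inv_F4 one_ne_zero AdjF4.hA AdjF4.lt_nroots AdjF4.row6 hr hrp
      (hn1 (by decide) h) (dvd6 hr h))
  · exact Or.inr (Or.inl h)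
  · exact Or.inr (Or.inr h)

/-- `5 ≤ r`, `r ∣ q² + 1`: adjacent to everything small -/
theorem four_F4 (F : Type u) [Field F] [Finite F] {p : ℕ} [Fact p.Prime] [CharP F p] {r : ℕ} (hr : r.Prime)
    (h2 : r ≠ 2) (hrp : r ≠ p) (h4 : od (Nat.card F) r = 4) : H94.PG.Adj ↥(chevF4.group F) r 2 ∧
    H94.PG.Adj ↥(chevF4.group F) r p ∧ (p = 2 → r ≠ 3 → H94.PG.Adj ↥(chevF4.group F) r 3) := by
  let cs : CoxeterSystem CoxeterMatrix.F₄ CoxeterMatrix.F₄.Group := CoxeterMatrix.F₄.toCoxeterSystem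
  have := finite_W f4T cs
  have hq : 1 ≤ Nat.card F := Nat.card_pos
  have hn1 : ¬ r ∣ Nat.card F - 1 := by
    intro h
    have h5 : od (Nat.card F) r ∣ 1 := od_dvd hq (by rw [pow_one]; exact h)
    rw [h4] at h5
    exact absurd h5 (by decide)
  exact ⟨adj_row f4T cs inv_F4 one_ne_zero AdjF4.hA AdjF4.lt_nroots AdjF4.row4 hr h2 hn1 (dvd4 hr h4),
    adjp_row f4T cs inv_F4 one_ne_zero AdjF4.hA AdjF4.lt_nroots AdjF4.row4 hr hrp hn1 (dvd4 hr h4)⟩

theorem num8 {q o v : ℕ} (hq : 3 ≤ q) (ho : o ≤ 2 * (q - 1)) (hv : 17 ≤ v) :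
    v * (2 * (o * 8)) < N8 q * (v - 1) := by
  have h1 : 17 * o < N8 q := by
    unfold N8
    obtain ⟨k, rfl⟩ : ∃ k, q = k + 3 := ⟨q - 3, by omega⟩
    have e : (k + 3) ^ 4 = k ^ 4 + 12 * k ^ 3 + 54 * k ^ 2 + 108 * k + 81 := by ring
    rw [e]
    have : k + 3 - 1 = k + 2 := by omega
    rw [this] at ho
    have h2 : 0 ≤ k ^ 4 := Nat.zero_le _
    have h3 : 0 ≤ k ^ 3 := Nat.zero_le _
    have h4 : 0 ≤ k ^ 2 := Nat.zero_le _
    omega
  obtain ⟨w, rfl⟩ : ∃ w, v = w + 17 := ⟨v - 17, by omega⟩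
  have e2 : w + 17 - 1 = w + 16 := by omega
  rw [e2]
  have h5 : 17 * o * (w + 16) < N8 q * (w + 16) := Nat.mul_lt_mul_of_pos_right h1 (by omega)
  have h6 : (w + 17) * (2 * (o * 8)) ≤ 17 * o * (w + 16) := by nlinarith [Nat.zero_le (o * w)]
  omega

theorem num12 {q o v : ℕ} (h1 : 26 * o < N12 q) (hv : 13 ≤ v) :
    v * (2 * (o * 12)) < N12 q * (v - 1) := by
  obtain ⟨w, rfl⟩ : ∃ w, v = w + 13 := ⟨v - 13, by omega⟩
  have e2 : w + 13 - 1 = w + 12 := by omega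
  rw [e2]
  have h5 : 26 * o * (w + 12) < N12 q * (w + 12) := Nat.mul_lt_mul_of_pos_right h1 (by omega)
  have h6 : (w + 13) * (2 * (o * 12)) ≤ 26 * o * (w + 12) := by nlinarith [Nat.zero_le (o * w)]
  omega

theorem num12' {q g n : ℕ} (hq : 3 ≤ q) (hn : n < q) (hg : g ≤ 2) (h4 : 1 < g → 4 ≤ q) : 26 * (g * n) < N12 q := by
  unfold N12
  have e : q ^ 4 - q ^ 2 = q ^ 2 * (q ^ 2 - 1) := by
    rw [Nat.mul_sub, mul_one]; congr 1; ring
  rw [e]
  have h9 : 9 ≤ q ^ 2 := by nlinarith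
  rcases Nat.lt_or_ge 1 g with h10 | h10
  · have h11 := h4 h10
    have h12 : 26 * (g * n) ≤ 26 * (2 * (q - 1)) := by
      have : g * (n : ℕ) ≤ 2 * (q - 1) := Nat.mul_le_mul hg (by omega)
      exact Nat.mul_le_mul_left _ this
    obtain ⟨k, rfl⟩ : ∃ k, q = k + 4 := ⟨q - 4, by omega⟩
    have e2 : (k + 4) ^ 2 - 1 = k ^ 2 + 8 * k + 15 := by
      have : (k + 4) ^ 2 = k ^ 2 + 8 * k + 15 + 1 := by ring
      omega
    rw [e2]
    have e3 : 26 * (2 * (k + 4 - 1)) = 52 * k + 156 := by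
      have : k + 4 - 1 = k + 3 := by omega
      rw [this]; ring
    rw [e3] at h12
    nlinarith
  · have h12 : 26 * (g * n) ≤ 26 * (1 * (q - 1)) := by
      have : g * (n : ℕ) ≤ 1 * (q - 1) := Nat.mul_le_mul h10 (by omega)
      exact Nat.mul_le_mul_left _ this
    obtain ⟨k, rfl⟩ : ∃ k, q = k + 3 := ⟨q - 3, by omega⟩
    have e2 : (k + 3) ^ 2 - 1 = k ^ 2 + 6 * k + 8 := by
      have : (k + 3) ^ 2 = k ^ 2 + 6 * k + 8 + 1 := by ring
      omega
    rw [e2]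
    have e3 : 26 * (1 * (k + 3 - 1)) = 26 * k + 52 := by
      have : k + 3 - 1 = k + 2 := by omega
      rw [this]; ring
    rw [e3] at h12
    nlinarith

variable {F : Type u} [Field F] [Fintype F]

/-- **`F₄(q)`, `q > 2`: no prime is `SCC`.** -/
theorem ntc_F4 (hq2 : 2 < Fintype.card F) : NTC ↥(chevF4.group F) := by
  have hT : Finite ↥(chevF4.group F) := inferInstance
  have hFc := Nat.card_eq_fintype_card (α := F)
  have hq : 1 ≤ Fintype.card F := Fintype.card_pos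
  obtain ⟨p, hpc⟩ := CharP.exists F
  obtain ⟨n, hp, hn⟩ := FiniteField.card F p
  have hpF : Fact p.Prime := ⟨hp⟩
  have hout := Cfsg.Agent.S2122.result p (n : ℕ) hn
  have hn0 := n.pos
  have hpq : p ∣ Nat.card F := by rw [hFc, hn]; exact dvd_pow_self _ (by omega)
  have hq_of : ∀ v : ℕ, v.Prime → v ∣ Nat.card F → v = p := by
    intro v hv h
    rw [hFc, hn] at h
    exact (Nat.prime_dvd_prime_iff_eq hv hp).1 (hv.dvd_of_dvd_pow h)
  have hnq : (n : ℕ) < Fintype.card F := by rw [hn]; exact f_lt_pow hp.two_le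
  have hg2 : Nat.gcd 2 p ≤ 2 := Nat.gcd_le_left _ (by norm_num)
  have hg4 : 1 < Nat.gcd 2 p → 4 ≤ Fintype.card F := by
    intro h
    have h5 : Nat.gcd 2 p ∣ 2 := Nat.gcd_dvd_left _ _
    have h6 : Nat.gcd 2 p = 2 := by
      rcases (Nat.dvd_prime Nat.prime_two).1 h5 with h | h
      · omega
      · exact h
    have h7 : p = 2 := ((Nat.prime_dvd_prime_iff_eq Nat.prime_two hp).1 (h6 ▸ Nat.gcd_dvd_right 2 p)).symm
    subst h7
    have : (n : ℕ) ≠ 1 := by
      intro h8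
      rw [h8] at hn
      omega
    calc 4 = 2 ^ 2 := by norm_num
      _ ≤ 2 ^ (n : ℕ) := Nat.pow_le_pow_right (by norm_num) (by omega)
      _ = _ := hn.symm
  have hgn : Nat.gcd 2 p * n ≤ 2 * (Fintype.card F - 1) := Nat.mul_le_mul hg2 (by omega)
  have h32 : H94.PG.Adj ↥(chevF4.group F) 3 2 := by
    rcases adj_F4 F Nat.prime_three three_dvd_F4 with h | h | h | h
    · exact absurd h (by norm_num)
    · exact h
    · exact absurd h (od_three _).1
    · exact absurd h (od_three _).2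
  obtain ⟨l, hl, hl5, hlq, hl4⟩ := exists_four (q := Nat.card F) (by omega)
  have hlp : l ≠ p := by rintro rfl; exact hlq hpq
  obtain ⟨a1, a2, a3⟩ := four_F4 F hl (by omega) hlp hl4
  refine ntc_of hl5 hlp h32 a1 (fun _ => a2) (fun h => a3 h (by omega))
    (fun h => adj_small f4T AdjF4.orth hp h (Or.inl hpq)) ?_
  intro v hv hd hv2 hvp
  have hvq : ¬ v ∣ Nat.card F := fun h => hvp (hq_of v hv h)
  have key8 : od (Nat.card F) v = 8 → ¬ SCC ↥(chevF4.group F) v := by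
    intro h
    have h17 : 17 ≤ v := by
      have h1 := Cfsg.Agent.H378.ExcNear.mod_of_od hv h (by norm_num)
      have h2 := hv.two_le
      obtain ⟨k, hk⟩ := h1
      have hk0 : k ≠ 0 := by rintro rfl; omega
      have hk1 : k ≠ 1 := by
        rintro rfl
        have : v = 9 := by omega
        subst this
        exact absurd hv (by norm_num)
      omega
    have h8 : v ∣ N8 (Fintype.card F) := by
      have h1 := Cfsg.Agent.H378.CycTab.dvd8 hv h
      rw [Cfsg.Agent.H378.CycTab.pv8, hFc] at h1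
      have : ((N8 (Fintype.card F) : ℕ) : ℤ) = (Fintype.card F : ℤ) ^ 4 + 1 := by unfold N8; push_cast; ring
      rw [← this] at h1
      exact Int.natCast_dvd_natCast.1 h1
    have hm : ((N8 (Fintype.card F) : ℕ) : ℤ) = 1 + (Fintype.card F : ℤ) ^ 4 := by unfold N8; push_cast; ring
    exact not_SCC_of_cyc hv (card_F4_8 rfl hm hv (by rw [← hm]; exact Int.natCast_dvd_natCast.2 h8) hv2)
      (K := (Fintype.card F) ^ 24 * ((Fintype.card F) ^ 2 - 1) * ((Fintype.card F) ^ 6 - 1) *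
        ((Fintype.card F) ^ 4 - 1) * ((Fintype.card F) ^ 12 - 1)) (by rw [card_F4 F, f4_card8])
      (f4_mod8 hq hv h8) (by norm_num) (by omega) (o := Nat.gcd 2 p * n) hout.le (num8 hq2 hgn h17)
  have key12 : od (Nat.card F) v = 12 → ¬ SCC ↥(chevF4.group F) v := by
    intro h
    have h13 : 13 ≤ v := by
      have h1 := Cfsg.Agent.H378.ExcNear.mod_of_od hv h (by norm_num)
      have h2 := hv.two_le
      obtain ⟨k, hk⟩ := h1
      have hk0 : k ≠ 0 := by rintro rfl; omega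
      omega
    have h12 : v ∣ N12 (Fintype.card F) := by
      have h1 := Cfsg.Agent.H378.CycTab.dvd12 hv h
      rw [Cfsg.Agent.H378.CycTab.pv12, hFc] at h1
      rw [← cast_N12] at h1
      exact Int.natCast_dvd_natCast.1 h1
    have hm : ((N12 (Fintype.card F) : ℕ) : ℤ) = 1 - (Fintype.card F : ℤ) ^ 2 + (Fintype.card F : ℤ) ^ 4 := by
      rw [cast_N12]; ring
    exact not_SCC_of_cyc hv (card_F4_12 rfl hm hv (by rw [← hm]; exact Int.natCast_dvd_natCast.2 h12))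
      (K := (Fintype.card F) ^ 24 * ((Fintype.card F) ^ 2 - 1) * ((Fintype.card F) ^ 6 - 1) *
        ((Fintype.card F) ^ 8 - 1) * (((Fintype.card F) ^ 6 - 1) * ((Fintype.card F) ^ 2 + 1)))
      (by rw [card_F4 F, f4_card12]) (f4_mod12 hq hv h12) (by norm_num) (by omega) (o := Nat.gcd 2 p * n) hout.le
      (num12 (num12' hq2 hnq hg2 hg4) h13)
  rcases adjp_F4 F hv hd hv2 hvp hvq with hb | hb | hb
  · rcases adj_F4 F hv hd with h4 | h4 | h4 | h4
    · exact absurd h4 hv2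
    · exact Or.inl ⟨h4, fun _ => hb.1, hb.2⟩
    · exact Or.inr (key8 h4)
    · exact Or.inr (key12 h4)
  · exact Or.inr (key8 hb)
  · exact Or.inr (key12 hb)

end F4

end Cfsg.Agent.H622.Der
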