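import Cfsg.Agent.H622.Der.RowTF4
import Cfsg.Agent.H622.Der.NtcF4
import Cfsg.Agent.H168.TwF4Cover

/-!
# S3502: `²F₄(q)`, `q ≥ 8`: `SCC` only for `q = 8`, `v = 37`; the strong row (helper622)
-/

set_option autoImplicit false
set_option maxRecDepth 100000

namespace Cfsg.Agent.H622.Der

open Subgroup Cfsg Cfsg.Lie Cfsg.Agent.H439.Der Cfsg.Agent.H938.Sax Cfsg.Agent.H946.Num Cfsg.Agent.OrdDiv
open Cfsg.Agent.H129.CycCard (CycCard card_tF4_6)
open Cfsg.Agent.H378.TwRowsF (adj_minus adj_plus adj_sq)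
open Cfsg.Agent.H493.PGF4T (f1 f2 fp fm f6 fP fM)
open Cfsg.Agent.H168.TwF4Cover (clique_2F4 KF dF)
open Cfsg.Agent.H257.El (Top card_quot_mul Known exists_top)
open Cfsg.Agent.H632.Der (not_SCC_of_two_adj)

universe u

theorem adj_of_rel {G : Type*} [Group G] [Finite G] {a b : ℕ} (h : Cfsg.Agent.H493.PG.Rel G a b) :
    H94.PG.Adj G a b := by
  obtain ⟨ha, hb, hab, g, hg⟩ := h
  exact H94.PG.adj_of_dvd ha hb hab (Commute.refl g) (by rw [hg]; exact dvd_mul_right _ _)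
    (by rw [hg]; exact dvd_mul_left _ _) (orderOf_pos _).ne' (orderOf_pos _).ne'

section Num

def N6 (q : ℕ) : ℕ := q ^ 2 + 1 - q

theorem cast_N6 (q : ℕ) : ((N6 q : ℕ) : ℤ) = (q : ℤ) ^ 2 - q + 1 := by
  unfold N6
  have : q ≤ q ^ 2 + 1 := by nlinarith
  rw [Nat.cast_sub this]; push_cast; ring

theorem tf4_card6 (q : ℕ) : q ^ 12 * (q - 1) * (q ^ 3 + 1) * (q ^ 4 - 1) * (q ^ 6 + 1) =
    N6 q * (q ^ 12 * (q - 1) * (q + 1) * (q ^ 4 - 1) * (q ^ 6 + 1)) := by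
  have h : (q + 1) * N6 q = q ^ 3 + 1 := by
    zify
    rw [cast_N6]
    ring
  rw [← h]; ring

theorem tf4_mod6 {q t : ℕ} (hq : 1 ≤ q) (h : t ∣ N6 q) :
    q ^ 12 * (q - 1) * (q + 1) * (q ^ 4 - 1) * (q ^ 6 + 1) ≡ 6 [MOD t] := by
  have h0 : ((q : ZMod t) ^ 2 - q + 1) = 0 := by
    have h1 : ((N6 q : ℕ) : ZMod t) = 0 := (ZMod.natCast_eq_zero_iff _ _).2 h
    have e : ((N6 q : ℕ) : ZMod t) = (((N6 q : ℕ) : ℤ) : ZMod t) := by push_cast; rfl
    rw [e, cast_N6] at h1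
    push_cast at h1
    exact h1
  rw [← ZMod.natCast_eq_natCast_iff]
  push_cast [hq, Nat.one_le_pow 4 q hq]
  generalize (q : ZMod t) = x at h0
  have h3 : x ^ 3 = -1 := by linear_combination (x + 1) * h0
  have h12 : x ^ 12 = 1 := by
    have : x ^ 12 = (x ^ 3) ^ 4 := by ring
    rw [this, h3]; ring
  have h6 : x ^ 6 = 1 := by
    have : x ^ 6 = (x ^ 3) ^ 2 := by ring
    rw [this, h3]; ring
  have h4 : x ^ 4 = -x := by
    have : x ^ 4 = x ^ 3 * x := by ring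
    rw [this, h3]; ring
  rw [h12, h6, h4]
  linear_combination (-2) * h3 + (-2) * h0

/-- `26 (2 m + 1) < N₋` for `m ≥ 2` -/
theorem Nm_gt' {m : ℕ} (hm : 2 ≤ m) : 26 * (2 * m + 1) < Nm (2 ^ m) := by
  have h1 : m < 2 ^ m := Nat.lt_two_pow_self
  have h4 : 4 ≤ 2 ^ m := by
    calc 4 = 2 ^ 2 := by norm_num
      _ ≤ 2 ^ m := Nat.pow_le_pow_right (by norm_num) hm
  generalize 2 ^ m = x at *
  obtain ⟨k, rfl⟩ : ∃ k, x = k + 4 := ⟨x - 4, by omega⟩
  have e : Nm (k + 4) = 4 * k ^ 4 + 60 * k ^ 3 + 338 * k ^ 2 + 846 * k + 793 := by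
    have h := cast_Nm (x := k + 4) (by omega)
    zify
    rw [h]
    push_cast
    ring
  rw [e]
  have : 0 ≤ k ^ 4 := Nat.zero_le _
  have : 0 ≤ k ^ 3 := Nat.zero_le _
  have : 0 ≤ k ^ 2 := Nat.zero_le _
  omega

theorem N6_gt {m : ℕ} (hm : 1 ≤ m) : 14 * (2 * m + 1) < N6 (2 * (2 ^ m) ^ 2) := by
  have h1 : m < 2 ^ m := Nat.lt_two_pow_self
  have h2 : 2 ≤ 2 ^ m := by
    calc 2 = 2 ^ 1 := by norm_num
      _ ≤ 2 ^ m := Nat.pow_le_pow_right (by norm_num) hm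
  generalize 2 ^ m = x at *
  obtain ⟨k, rfl⟩ : ∃ k, x = k + 2 := ⟨x - 2, by omega⟩
  have e : N6 (2 * (k + 2) ^ 2) = 4 * k ^ 4 + 32 * k ^ 3 + 94 * k ^ 2 + 120 * k + 57 := by
    have h := cast_N6 (2 * (k + 2) ^ 2)
    zify
    rw [h]
    push_cast
    ring
  rw [e]
  have : 0 ≤ k ^ 4 := Nat.zero_le _
  have : 0 ≤ k ^ 3 := Nat.zero_le _
  have : 0 ≤ k ^ 2 := Nat.zero_le _
  omega

theorem num_v {N o v c d : ℕ} (h1 : d * o < N) (hv : c ≤ v) (hc : 2 ≤ c) {n : ℕ} (h : 2 * n * c = d * (c - 1))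
    (hn : 2 * n ≤ d) : v * (2 * (o * n)) < N * (v - 1) := by
  obtain ⟨b, rfl⟩ : ∃ b, c = b + 1 := ⟨c - 1, by omega⟩
  obtain ⟨w, rfl⟩ : ∃ w, v = w + (b + 1) := ⟨v - (b + 1), by omega⟩
  have e2 : w + (b + 1) - 1 = w + b := by omega
  rw [Nat.add_sub_cancel] at h
  rw [e2]
  have h5 : d * o * (w + b) < N * (w + b) := Nat.mul_lt_mul_of_pos_right h1 (by omega)
  have h6 : (w + (b + 1)) * (2 * (o * n)) ≤ d * o * (w + b) := by
    have e3 : (w + (b + 1)) * (2 * (o * n)) = w * (2 * n) * o + 2 * n * (b + 1) * o := by ring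
    rw [e3, h]
    have h7 : w * (2 * n) * o ≤ w * d * o := Nat.mul_le_mul_right _ (Nat.mul_le_mul_left _ hn)
    nlinarith
  omega

end Num

section TF4

variable {K : Type u} [Field K] [Fintype K] {m : ℕ}

theorem cast_q (m : ℕ) : ((2 * (2 ^ m) ^ 2 : ℕ) : ℤ) = 2 * (2 ^ m) ^ 2 := by push_cast; ring

theorem exists_f1 (hm : 1 ≤ m) : ∃ w : ℕ, w.Prime ∧ (w : ℤ) ∣ f1 (2 ^ m) ∧ w ≠ 2 ∧ w ≠ 3 := by
  have hx : 2 ≤ 2 ^ m := by
    calc 2 = 2 ^ 1 := by norm_num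
      _ ≤ 2 ^ m := Nat.pow_le_pow_right (by norm_num) hm
  have h8 : 8 ≤ 2 * (2 ^ m) ^ 2 := by nlinarith
  obtain ⟨w, hw, hd⟩ := Nat.exists_prime_and_dvd (n := 2 * (2 ^ m) ^ 2 - 1) (by omega)
  have h1 : (w : ℤ) ∣ f1 (2 ^ m) := by
    have h2 := Int.natCast_dvd_natCast.2 hd
    rw [Nat.cast_sub (by omega), cast_q] at h2
    exact h2
  refine ⟨w, hw, h1, ?_, ?_⟩
  · rintro rfl
    have h2 : 2 ∣ 2 * (2 ^ m) ^ 2 := dvd_mul_right _ _
    have h3 := Nat.dvd_sub h2 hd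
    have e : 2 * (2 ^ m) ^ 2 - (2 * (2 ^ m) ^ 2 - 1) = 1 := by omega
    rw [e] at h3
    omega
  · rintro rfl
    have h3 := (Cfsg.Agent.H493.PGF4T.three_dvd m).1
    have h4 := dvd_sub h3 h1
    have e : f2 (2 ^ m) - f1 (2 ^ m) = 2 := by unfold f1 f2; ring
    rw [e] at h4
    exact absurd h4 (by decide)

theorem exists_fp (hm : 1 ≤ m) : ∃ w : ℕ, w.Prime ∧ (w : ℤ) ∣ fp (2 ^ m) ∧ w ≠ 2 ∧ ¬ (w : ℤ) ∣ fm (2 ^ m) := by
  have hx : 2 ≤ 2 ^ m := by
    calc 2 = 2 ^ 1 := by norm_num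
      _ ≤ 2 ^ m := Nat.pow_le_pow_right (by norm_num) hm
  obtain ⟨w, hw, hd⟩ := Nat.exists_prime_and_dvd (n := 2 * (2 ^ m) ^ 2 + 2 * 2 ^ m + 1) (by nlinarith)
  have h1 : (w : ℤ) ∣ fp (2 ^ m) := by
    have h2 := Int.natCast_dvd_natCast.2 hd
    unfold fp
    push_cast at h2
    exact h2
  have h2 : w ≠ 2 := by
    rintro rfl
    omega
  refine ⟨w, hw, h1, h2, fun h => ?_⟩
  have h4 := dvd_sub h1 h
  have e : fp (2 ^ m) - fm (2 ^ m) = ((2 ^ (m + 2) : ℕ) : ℤ) := by unfold fp fm; push_cast; ring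
  rw [e] at h4
  exact h2 ((Nat.prime_dvd_prime_iff_eq hw Nat.prime_two).1 (hw.dvd_of_dvd_pow (Int.natCast_dvd_natCast.1 h4)))

theorem exists_fm (hm : 1 ≤ m) : ∃ w : ℕ, w.Prime ∧ (w : ℤ) ∣ fm (2 ^ m) ∧ w ≠ 2 ∧ ¬ (w : ℤ) ∣ fp (2 ^ m) := by
  have hx : 2 ≤ 2 ^ m := by
    calc 2 = 2 ^ 1 := by norm_num
      _ ≤ 2 ^ m := Nat.pow_le_pow_right (by norm_num) hm
  have hle : 2 * 2 ^ m ≤ 2 * (2 ^ m) ^ 2 := by nlinarith
  have hlt : 4 * 2 ^ m ≤ 2 * (2 ^ m) ^ 2 := by nlinarith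
  obtain ⟨w, hw, hd⟩ := Nat.exists_prime_and_dvd (n := 2 * (2 ^ m) ^ 2 - 2 * 2 ^ m + 1) (by omega)
  have h1 : (w : ℤ) ∣ fm (2 ^ m) := by
    have h2 := Int.natCast_dvd_natCast.2 hd
    unfold fm
    push_cast [hle] at h2
    exact h2
  have h2 : w ≠ 2 := by
    rintro rfl
    omega
  refine ⟨w, hw, h1, h2, fun h => ?_⟩
  have h4 := dvd_sub h h1
  have e : fp (2 ^ m) - fm (2 ^ m) = ((2 ^ (m + 2) : ℕ) : ℤ) := by unfold fp fm; push_cast; ring
  rw [e] at h4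
  exact h2 ((Nat.prime_dvd_prime_iff_eq hw Nat.prime_two).1 (hw.dvd_of_dvd_pow (Int.natCast_dvd_natCast.1 h4)))

/-- a prime divisor of `q² + √(2q³) + ..` is at least 13 -/
theorem thirteen_le {v : ℕ} (hv : v.Prime) (h : v ∣ N12 (2 * (2 ^ m) ^ 2)) : 13 ≤ v := by
  have h0 := zm_N12 hv h
  have := Fact.mk hv
  have h2 : orderOf ((2 * (2 ^ m) ^ 2 : ℕ) : ZMod v) = 12 := by
    generalize ((2 * (2 ^ m) ^ 2 : ℕ) : ZMod v) = x at h0
    have h6 : x ^ 6 = -1 := by linear_combination (x ^ 2 + 1) * h0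
    have hv2 : v ≠ 2 := by
      rintro rfl
      clear h6
      revert h0
      revert x
      decide
    have hv3 : v ≠ 3 := by
      rintro rfl
      clear h6
      revert h0
      revert x
      decide
    have h2 : (2 : ZMod v) ≠ 0 := by
      intro h
      have h1 : ((2 : ℕ) : ZMod v) = 0 := by exact_mod_cast h
      exact hv2 ((Nat.prime_dvd_prime_iff_eq hv Nat.prime_two).1 ((ZMod.natCast_eq_zero_iff _ _).1 h1))
    have h3 : (3 : ZMod v) ≠ 0 := by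
      intro h
      have h1 : ((3 : ℕ) : ZMod v) = 0 := by exact_mod_cast h
      exact hv3 ((Nat.prime_dvd_prime_iff_eq hv Nat.prime_three).1 ((ZMod.natCast_eq_zero_iff _ _).1 h1))
    refine orderOf_eq_of_pow_and_pow_div_prime (by norm_num) ?_ fun p hp hd => ?_
    · have : x ^ 12 = (x ^ 6) ^ 2 := by ring
      rw [this, h6]; ring
    · have hd' : p ∣ 2 ^ 2 * 3 := hd
      rcases (Nat.Prime.dvd_mul hp).1 hd' with h | h
      · obtain rfl := (Nat.prime_dvd_prime_iff_eq hp Nat.prime_two).1 (hp.dvd_of_dvd_pow h)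
        rw [show 12 / 2 = 6 from rfl, h6]
        intro h7
        apply h2
        linear_combination (-1) * h7
      · obtain rfl := (Nat.prime_dvd_prime_iff_eq hp Nat.prime_three).1 h
        rw [show 12 / 3 = 4 from rfl]
        intro h7
        have h8 : x ^ 2 = 2 := by linear_combination (-1) * h0 + h7
        have h9 : x ^ 4 = 4 := by
          have : x ^ 4 = (x ^ 2) ^ 2 := by ring
          rw [this, h8]; norm_num
        apply h3
        rw [h9] at h7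
        linear_combination h7
  have h3 := Cfsg.Agent.H378.ExcNear.mod_of_od hv (q := 2 * (2 ^ m) ^ 2) (m := 12) h2 (by norm_num)
  have h4 := hv.two_le
  obtain ⟨k, hk⟩ := h3
  have hk0 : k ≠ 0 := by rintro rfl; omega
  omega

theorem seven_le {q v : ℕ} (hv : v.Prime) (hv3 : v ≠ 3) (h : v ∣ N6 q) : 7 ≤ v := by
  have h0 : ((q : ZMod v) ^ 2 - q + 1) = 0 := by
    have h1 : ((N6 q : ℕ) : ZMod v) = 0 := (ZMod.natCast_eq_zero_iff _ _).2 h
    have e : ((N6 q : ℕ) : ZMod v) = (((N6 q : ℕ) : ℤ) : ZMod v) := by push_cast; rfl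
    rw [e, cast_N6] at h1
    push_cast at h1
    exact h1
  by_contra hlt
  have h2 := hv.two_le
  have h5 : v = 2 ∨ v = 5 := by
    interval_cases v
    · exact Or.inl rfl
    · exact absurd rfl hv3
    · exact absurd hv (by norm_num)
    · exact Or.inr rfl
    · exact absurd hv (by norm_num)
  rcases h5 with rfl | rfl
  · generalize (q : ZMod 2) = x at h0
    revert h0; revert x; decide
  · generalize (q : ZMod 5) = x at h0
    revert h0; revert x; decide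

/-- **`²F₄(q)`, `q ≥ 8`: `SCC` only for `q = 8`, `v = 37`.** -/
theorem scc_TF4 (hm : 1 ≤ m) (hK : Fintype.card K = 2 ^ (2 * m + 1)) {v : ℕ} (hv : v.Prime)
    (hd : v ∣ Nat.card ↥(twistedF4 K (2 ^ m))) (hSC : SCC ↥(twistedF4 K (2 ^ m)) v) : m = 1 ∧ v = 37 := by
  have hT : Finite ↥(twistedF4 K (2 ^ m)) := inferInstance
  have hx : 1 ≤ 2 ^ m := Nat.one_le_two_pow
  have hout := Cfsg.Agent.S2128.result hm hK
  have hKc : Nat.card K = 2 * (2 ^ m) ^ 2 := by rw [Nat.card_eq_fintype_card, hK, q_eq]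
  have hcl := clique_2F4 K hK
  have hp2 : ∀ {r : ℕ}, r.Prime → r ≠ 2 → (r : ℤ) ∣ f2 (2 ^ m) → H94.PG.Adj ↥(twistedF4 K (2 ^ m)) r 2 := by
    intro r hr hr2 h
    refine adj_plus hK hr hr2 (Int.natCast_dvd_natCast.1 (h.trans ?_))
    rw [hKc]
    push_cast
    exact ⟨1, by unfold f2; ring⟩
  have hsq : ∀ {r : ℕ}, r.Prime → r ≠ 2 → (r : ℤ) ∣ fp (2 ^ m) * fm (2 ^ m) →
      H94.PG.Adj ↥(twistedF4 K (2 ^ m)) r 2 := by
    intro r hr hr2 h
    refine adj_sq hK hr hr2 (Int.natCast_dvd_natCast.1 (h.trans ?_))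
    rw [hKc]
    push_cast
    exact ⟨1, by unfold fp fm; ring⟩
  have h3 := Cfsg.Agent.H493.PGF4T.three_dvd m
  have h32 : H94.PG.Adj ↥(twistedF4 K (2 ^ m)) 3 2 := hp2 Nat.prime_three (by norm_num) h3.1
  obtain ⟨w, hw, hw1, hw2, hw3⟩ := exists_f1 hm
  have hcl12 := hcl _ (.tail _ (.tail _ (.tail _ (.head _))))
  have hcl4 := hcl _ (.tail _ (.tail _ (.tail _ (.tail _ (.head _)))))
  have haw2 : H94.PG.Adj ↥(twistedF4 K (2 ^ m)) w 2 := adj_minus hK hw hw2 hw1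
  have haw3 : H94.PG.Adj ↥(twistedF4 K (2 ^ m)) w 3 :=
    adj_of_rel (hcl12 _ _ hw Nat.prime_three hw3 (Or.inl hw1) (Or.inr h3.1))
  by_cases hv2 : v = 2
  · subst hv2
    exact absurd hSC (not_SCC_of_two_adj h32.symm haw2.symm (Ne.symm hw3))
  by_cases hv3 : v = 3
  · subst hv3
    exact absurd hSC (not_SCC_of_two_adj h32 haw3.symm (Ne.symm hw2))
  have hdd := hd
  rw [Cfsg.Agent.S1068.result hK] at hd
  have hcM : ((Nm (2 ^ m) : ℕ) : ℤ) = fM (2 ^ m) := by rw [cast_Nm hx]; unfold fM; push_cast; ring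
  have hcP : ((Np (2 ^ m) : ℕ) : ℤ) = fP (2 ^ m) := by rw [cast_Np]; unfold fP; push_cast; ring
  have hN12 : N12 (2 * (2 ^ m) ^ 2) = Np (2 ^ m) * Nm (2 ^ m) := (Np_mul_Nm hx).symm
  rcases Cfsg.Agent.H493.PGF4T.cover hv hd with (h | h | h | h | h | h) | h | h
  · exact absurd h hv2
  · exact absurd hSC (not_SCC_of_two_adj (adj_minus hK hv hv2 h)
      (adj_of_rel (hcl12 _ _ hv Nat.prime_three hv3 (Or.inl h) (Or.inr h3.1))) (by norm_num))
  · exact absurd hSC (not_SCC_of_two_adj (hp2 hv hv2 h)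
      (adj_of_rel (hcl12 _ _ hv Nat.prime_three hv3 (Or.inr h) (Or.inr h3.1))) (by norm_num))
  · obtain ⟨u, hu, hu1, hu2, hu3⟩ := exists_fm hm
    exact absurd hSC (not_SCC_of_two_adj (hsq hv hv2 (h.mul_right _))
      (adj_of_rel (hcl4 _ _ hv hu (by rintro rfl; exact hu3 h) (Or.inl h) (Or.inr hu1))) (Ne.symm hu2))
  · obtain ⟨u, hu, hu1, hu2, hu3⟩ := exists_fp hm
    exact absurd hSC (not_SCC_of_two_adj (hsq hv hv2 (h.mul_left _))
      (adj_of_rel (hcl4 _ _ hv hu (by rintro rfl; exact hu3 h) (Or.inr h) (Or.inl hu1))) (Ne.symm hu2))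
  · exfalso
    have hc6 : ((N6 (2 * (2 ^ m) ^ 2) : ℕ) : ℤ) = 1 - 2 * (2 ^ m) ^ 2 + 4 * (2 ^ m) ^ 4 := by
      rw [cast_N6]; push_cast; ring
    have h' : (v : ℤ) ∣ 1 - 2 * (2 ^ m) ^ 2 + 4 * (2 ^ m) ^ 4 := by
      have e : f6 (2 ^ m) = 1 - 2 * (2 ^ m) ^ 2 + 4 * (2 ^ m) ^ 4 := by unfold f6; ring
      rwa [e] at h
    have h6 : v ∣ N6 (2 * (2 ^ m) ^ 2) := by
      rw [← hc6] at h'
      exact Int.natCast_dvd_natCast.1 h'
    have hq1 : 1 ≤ 2 * (2 ^ m) ^ 2 := by nlinarith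
    have h7 := seven_le hv hv3 h6
    refine not_SCC_of_cyc hv (card_tF4_6 hK hc6 hv h' hv3) (K := (2 * (2 ^ m) ^ 2) ^ 12 * ((2 * (2 ^ m) ^ 2) - 1) *
      ((2 * (2 ^ m) ^ 2) + 1) * ((2 * (2 ^ m) ^ 2) ^ 4 - 1) * ((2 * (2 ^ m) ^ 2) ^ 6 + 1))
      (by rw [Cfsg.Agent.S1068.result hK, q_eq, tf4_card6]) (tf4_mod6 hq1 h6) (by norm_num) (by omega)
      (o := 2 * m + 1) hout.le (num_v (c := 7) (d := 14) (N6_gt hm) h7 (by norm_num) (by norm_num) (by norm_num)) hSC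
  · exfalso
    rw [← hcP] at h
    have h1 := Int.natCast_dvd_natCast.1 h
    have h13 := thirteen_le (m := m) hv (by rw [hN12]; exact h1.mul_right _)
    refine not_SCC_of_cyc hv (cyc_p hK hv h1) (K := Nm (2 ^ m) * ((2 * (2 ^ m) ^ 2) ^ 12 * (2 * (2 ^ m) ^ 2 - 1) *
      ((2 * (2 ^ m) ^ 2) ^ 3 + 1) * ((2 * (2 ^ m) ^ 2) ^ 4 - 1) * ((2 * (2 ^ m) ^ 2) ^ 2 + 1)))
      (by rw [card_TF4 hK]; ring) (tf4_mod_p hx h1) (by norm_num) (by omega) (o := 2 * m + 1) hout.le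
      (num_v (c := 13) (d := 26) ?_ h13 (by norm_num) (by norm_num) (by norm_num)) hSC
    rcases Nat.lt_or_ge 1 m with h2 | h2
    · exact lt_of_lt_of_le (Nm_gt' h2) (Nm_lt_Np hx)
    · have : m = 1 := by omega
      subst this
      decide
  · rw [← hcM] at h
    have h1 := Int.natCast_dvd_natCast.1 h
    by_cases hm1 : m = 1
    · refine ⟨hm1, ?_⟩
      subst hm1
      have h2 : Nm (2 ^ 1) = 37 := by decide
      rw [h2] at h1
      exact (Nat.prime_dvd_prime_iff_eq hv (by norm_num)).1 h1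
    · exfalso
      have h13 := thirteen_le (m := m) hv (by rw [hN12]; exact h1.mul_left _)
      exact not_SCC_of_cyc hv (cyc_m hK hv h1) (K := Np (2 ^ m) * ((2 * (2 ^ m) ^ 2) ^ 12 * (2 * (2 ^ m) ^ 2 - 1) *
        ((2 * (2 ^ m) ^ 2) ^ 3 + 1) * ((2 * (2 ^ m) ^ 2) ^ 4 - 1) * ((2 * (2 ^ m) ^ 2) ^ 2 + 1)))
        (by rw [card_TF4 hK]; ring) (tf4_mod_m hx h1) (by norm_num) (by omega) (o := 2 * m + 1) hout.le
        (num_v (c := 13) (d := 26) (Nm_gt' (by omega)) h13 (by norm_num) (by norm_num) (by norm_num)) hSC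

/-- **A subgroup of `²F₄(8)` of order divisible by 109 and not by 37 has order not divisible by 5, 7, 13.** -/
theorem not_dvd_8 {T : Type u} [Group T] [Finite T] (tab : OrderTable.{u}) (known : Known.{u})
    (hn : Nat.card T = 264905352699586176614400)
    {R : Subgroup T} (h109 : 109 ∣ Nat.card R) (h37 : ¬ 37 ∣ Nat.card R) {s : ℕ} (hs : s ∈ [5, 7, 13])
    (hno : ∀ z : T, orderOf z ≠ 109 * s) : ¬ s ∣ Nat.card R := by
  have hRn : Nat.card R ∣ 7159604127015842611200 := by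
    have h1 : Nat.card R ∣ 7159604127015842611200 * 37 := by
      have h2 := Subgroup.card_subgroup_dvd_card R
      rw [hn] at h2
      exact h2
    exact Nat.Coprime.dvd_of_dvd_mul_right ((Nat.Prime.coprime_iff_not_dvd (by norm_num)).2 h37).symm h1
  have hv : valid l8 7159604127015842611200 = true := by decide +kernel
  have hsq : ¬ 109 ^ 2 ∣ Nat.card R := fun h => absurd (h.trans hRn) (by norm_num)
  have hp109 : Nat.Prime 109 := by norm_num
  have hsp : s.Prime ∧ s ≠ 109 ∧ ¬ s ∣ 109 * (109 - 1) ∧ Cfsg.Agent.H257.El.okPow l8 109 s = true := by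
    simp only [List.mem_cons, List.not_mem_nil, or_false] at hs
    rcases hs with rfl | rfl | rfl
    · exact ⟨by norm_num, by norm_num, by norm_num, by decide +kernel⟩
    · exact ⟨by norm_num, by norm_num, by norm_num, by decide +kernel⟩
    · exact ⟨by norm_num, by norm_num, by norm_num, by decide +kernel⟩
  obtain ⟨O, hO, N, h⟩ := exists_top hp109 h109 hsq
  have hRO := card_quot_mul O
  have h3O : ¬ s ∣ Nat.card O := by
    refine h.not_dvd_core hsp.1 (Ne.symm hsp.2.1) (fun z => ?_) (fun b hb hd => ?_)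
    · rw [← Subgroup.orderOf_coe]
      exact hno z
    · exact Cfsg.Agent.H257.El.okPow_spec hv hsp.2.2.2 hsp.1 hb (hd.trans hRn)
  intro hsR
  have hsim := h.simple
  by_cases hc : ∀ a b : N, a * b = b * a
  · have h1 := card_quot_dvd h hc
    rw [← hRO] at hsR
    rcases hsp.1.dvd_mul.1 hsR with h2 | h2
    · exact hsp.2.2.1 (h2.trans h1)
    · exact h3O h2
  · have hNR : Nat.card N ∣ Nat.card R := by
      refine (Subgroup.card_subgroup_dvd_card N).trans ?_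
      rw [← hRO]
      exact dvd_mul_right _ _
    obtain ⟨g, hg, -, hgc⟩ := exists_good tab (known N) hc hv (hNR.trans hRn)
    have h1 : ((cands l8 7159604127015842611200).all fun g => ordN g % 109 != 0) = true := by decide +kernel
    rw [List.all_eq_true] at h1
    have h2 := h1 g hg
    rw [← hgc, Nat.mod_eq_zero_of_dvd h.dvd] at h2
    exact absurd h2 (by decide)

/-- **the strong row `²F₄(q)`** -/
theorem rowS_TF4_of (tab : OrderTable.{u}) (known : Known.{u}) (hm : 1 ≤ m) (hK : Fintype.card K = 2 ^ (2 * m + 1))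
    (hpg : ∀ M : Subgroup ↥(twistedF4 K (2 ^ m)), IsCoatom M → PGap ↥(twistedF4 K (2 ^ m)) M) :
    RowS ↥(twistedF4 K (2 ^ m)) := by
  have hT : Finite ↥(twistedF4 K (2 ^ m)) := inferInstance
  refine RowS.of_three fun M hM => ?_
  obtain ⟨v, hv, hvd, hvM⟩ := hpg M hM
  have key : ∀ w : ℕ, w.Prime → w ∣ Nat.card ↥(twistedF4 K (2 ^ m)) → ¬ w ∣ Nat.card M → ¬ (m = 1 ∧ w = 37) →
      Three ↥(twistedF4 K (2 ^ m)) M := by
    intro w hw hwd hwM hne
    have := Fact.mk hw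
    obtain ⟨x, hx⟩ := exists_prime_orderOf_dvd_card' w hwd
    exact Three.of_not_dvd hwM (fun h => hne (scc_TF4 hm hK hw hwd h)) ⟨x, by rw [hx]⟩
  by_cases h37 : m = 1 ∧ v = 37
  swap
  · exact key v hv hvd hvM h37
  obtain ⟨rfl, rfl⟩ := h37
  have hcard : Nat.card ↥(twistedF4 K (2 ^ 1)) = 264905352699586176614400 := by
    rw [Cfsg.Agent.S1068.result hK]
    norm_num
  have h109p : Nat.Prime 109 := by norm_num
  by_cases h109 : 109 ∣ Nat.card M
  · have h1 : Np (2 ^ 1) = 109 := by decide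
    have h2 := cyc_p hK h109p (by rw [h1])
    rw [h1] at h2
    have h3 : ∀ s ∈ [5, 7, 13], ¬ s ∣ Nat.card M := by
      intro s hs
      refine not_dvd_8 tab known hcard h109 hvM hs ?_
      simp only [List.mem_cons, List.not_mem_nil, or_false] at hs
      rcases hs with rfl | rfl | rfl
      · exact no_ord h109p (by norm_num) (by norm_num) h2
      · exact no_ord h109p (by norm_num) (by norm_num) h2
      · exact no_ord h109p (by norm_num) (by norm_num) h2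
    exact Three.of_three_primes (u := 5) (v := 7) (w := 13) (by norm_num) (by norm_num) (by norm_num) (by norm_num)
      (by norm_num) (by norm_num) (by rw [hcard]; norm_num) (by rw [hcard]; norm_num) (by rw [hcard]; norm_num)
      (h3 5 (by simp)) (h3 7 (by simp)) (h3 13 (by simp))
  · exact key 109 h109p (by rw [hcard]; norm_num) h109 (by norm_num)

end TF4

end Cfsg.Agent.H622.Der
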