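import Cfsg.Agent.H622.Der.Tor
import Cfsg.Agent.H946.ExcNum
import Cfsg.Agent.H378.ExcAdj
import Cfsg.Agent.S2122
import Cfsg.Agent.S1062

/-!
# `F₄(q)`, `q ≥ 3`: for no prime `v` all `v`-singular elements are conjugate (helper622)
-/

set_option autoImplicit false

namespace Cfsg.Agent.H622.Der

open Subgroup Cfsg Cfsg.Lie Cfsg.Agent.H439.Der Cfsg.Agent.H938.Sax Cfsg.Agent.H946.Num
open Cfsg.Agent.H129.CycCard (CycCard card_F4_8 card_F4_12)
open Cfsg.Agent.H378.ExcAdj (od adj_F4)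

universe u

theorem not_SC_of_adj {T : Type*} [Group T] [Finite T] {v w : ℕ} (h : H94.PG.Adj T v w) : ¬ SC T v := by
  obtain ⟨hv, hw, hvw, x, y, hx, hy, hc⟩ := h
  exact not_SC_of_commute hv hw hvw hx hy hc

theorem not_SC_of_adj' {T : Type*} [Group T] [Finite T] {v w : ℕ} (h : H94.PG.Adj T w v) : ¬ SC T v := by
  obtain ⟨hw, hv, hvw, x, y, hx, hy, hc⟩ := h
  exact not_SC_of_commute hv hw hvw.symm hy hx hc.symm

section Num

theorem f4_card12 (q : ℕ) : q ^ 24 * (q ^ 2 - 1) * (q ^ 6 - 1) * (q ^ 8 - 1) * (q ^ 12 - 1) =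
    N12 q * (q ^ 24 * (q ^ 2 - 1) * (q ^ 6 - 1) * (q ^ 8 - 1) * ((q ^ 6 - 1) * (q ^ 2 + 1))) := by
  have h : (q ^ 6 - 1) * (q ^ 2 + 1) * N12 q = q ^ 12 - 1 := by
    rcases Nat.eq_zero_or_pos q with rfl | hq
    · rfl
    zify [Nat.one_le_pow 6 q hq, Nat.one_le_pow 12 q hq]
    rw [cast_N12]
    ring
  rw [← h]; ring

theorem f4_card8 (q : ℕ) : q ^ 24 * (q ^ 2 - 1) * (q ^ 6 - 1) * (q ^ 8 - 1) * (q ^ 12 - 1) =
    N8 q * (q ^ 24 * (q ^ 2 - 1) * (q ^ 6 - 1) * (q ^ 4 - 1) * (q ^ 12 - 1)) := by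
  have h : (q ^ 4 - 1) * N8 q = q ^ 8 - 1 := by
    rcases Nat.eq_zero_or_pos q with rfl | hq
    · rfl
    unfold N8
    zify [Nat.one_le_pow 4 q hq, Nat.one_le_pow 8 q hq]
    ring
  rw [← h]; ring

theorem f4_mod12 {q t : ℕ} (hq : 1 ≤ q) (htp : t.Prime) (ht : t ∣ N12 q) :
    q ^ 24 * (q ^ 2 - 1) * (q ^ 6 - 1) * (q ^ 8 - 1) * ((q ^ 6 - 1) * (q ^ 2 + 1)) ≡ 12 [MOD t] := by
  have h0 := zm_N12 htp ht
  rw [← ZMod.natCast_eq_natCast_iff]
  push_cast [Nat.one_le_pow 6 q hq, Nat.one_le_pow 2 q hq, Nat.one_le_pow 8 q hq]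
  generalize (q : ZMod t) = x at h0
  have h6 : x ^ 6 = -1 := by linear_combination (x ^ 2 + 1) * h0
  have h24 : x ^ 24 = 1 := by
    have : x ^ 24 = (x ^ 6) ^ 4 := by ring
    rw [this, h6]; ring
  have h8 : x ^ 8 = - x ^ 2 := by
    have : x ^ 8 = x ^ 6 * x ^ 2 := by ring
    rw [this, h6]; ring
  rw [h24, h6, h8]
  linear_combination (-4 * (x ^ 2 + 1) - 4) * h0

theorem f4_mod8 {q t : ℕ} (hq : 1 ≤ q) (htp : t.Prime) (ht : t ∣ N8 q) :
    q ^ 24 * (q ^ 2 - 1) * (q ^ 6 - 1) * (q ^ 4 - 1) * (q ^ 12 - 1) ≡ 8 [MOD t] := by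
  have h0 := zm_N8 htp ht
  rw [← ZMod.natCast_eq_natCast_iff]
  push_cast [Nat.one_le_pow 6 q hq, Nat.one_le_pow 2 q hq, Nat.one_le_pow 4 q hq, Nat.one_le_pow 12 q hq]
  generalize (q : ZMod t) = x at h0
  have h4 : x ^ 4 = -1 := by linear_combination h0
  have h24 : x ^ 24 = 1 := by
    have : x ^ 24 = (x ^ 4) ^ 6 := by ring
    rw [this, h4]; ring
  have h6 : x ^ 6 = - x ^ 2 := by
    have : x ^ 6 = x ^ 4 * x ^ 2 := by ring
    rw [this, h4]; ring
  have h12 : x ^ 12 = -1 := by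
    have : x ^ 12 = (x ^ 4) ^ 3 := by ring
    rw [this, h4]; ring
  rw [h24, h4, h6, h12]
  linear_combination (-4) * h4

/-- the order of `q` modulo 3 -/
theorem od_three (q : ℕ) : od q 3 ≠ 8 ∧ od q 3 ≠ 12 := by
  have h : (q : ZMod 3) = 0 ∨ (q : ZMod 3) ^ 2 = 1 := by
    generalize (q : ZMod 3) = x
    revert x; decide
  have key : ∀ n, 3 ≤ n → od q 3 ≠ n := by
    intro n hn hod
    rcases h with h | h
    · have h1 := pow_orderOf_eq_one ((q : ℕ) : ZMod 3)
      have h2 : orderOf ((q : ℕ) : ZMod 3) = n := hod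
      rw [h2, h, zero_pow (by omega)] at h1
      exact absurd h1 (by decide)
    · have h1 := orderOf_dvd_of_pow_eq_one h
      have h2 : orderOf ((q : ℕ) : ZMod 3) = n := hod
      rw [h2] at h1
      have := Nat.le_of_dvd (by norm_num) h1
      omega
  exact ⟨key 8 (by norm_num), key 12 (by norm_num)⟩

theorem lin_lt_pow {f : ℕ} (hf : 2 ≤ f) : 16 * f < 2 ^ (4 * f) := by
  obtain ⟨k, rfl⟩ : ∃ k, f = k + 2 := ⟨f - 2, by omega⟩
  clear hf
  induction k with
  | zero => norm_num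
  | succ k ih =>
    have e : 2 ^ (4 * (k + 1 + 2)) = 16 * 2 ^ (4 * (k + 2)) := by
      rw [show 4 * (k + 1 + 2) = 4 + 4 * (k + 2) by ring, pow_add]; norm_num
    rw [e]
    omega

theorem f_lt_pow {p f : ℕ} (hp : 2 ≤ p) : f < p ^ f := by
  exact Nat.lt_pow_self (by omega)

end Num

section F4

variable {F : Type u} [Field F] [Fintype F]

theorem card_F4 (F : Type u) [Field F] [Fintype F] : Nat.card ↥(chevF4.group F) =
    (Fintype.card F) ^ 24 * ((Fintype.card F) ^ 2 - 1) * ((Fintype.card F) ^ 6 - 1) * ((Fintype.card F) ^ 8 - 1) *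
      ((Fintype.card F) ^ 12 - 1) := by
  rw [Cfsg.Agent.S1062.result (F := F) rfl]

theorem two_dvd_F4 : 2 ∣ Nat.card ↥(chevF4.group F) := by
  rw [card_F4 F]
  generalize Fintype.card F = q
  rcases Nat.even_or_odd q with h | h
  · exact ((((h.two_dvd.trans (dvd_pow_self q (by norm_num))).mul_right _).mul_right _).mul_right _).mul_right _
  · have h1 : 2 ∣ q ^ 2 - 1 := (Nat.Odd.sub_odd (h.pow) odd_one).two_dvd
    exact (((h1.mul_left _).mul_right _).mul_right _).mul_right _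

theorem three_dvd_F4 : 3 ∣ Nat.card ↥(chevF4.group F) := by
  rw [card_F4 F]
  have hq : 1 ≤ Fintype.card F := Fintype.card_pos
  generalize Fintype.card F = q at *
  have h : 3 ∣ q ∨ 3 ∣ q ^ 2 - 1 := by
    have h1 : q % 3 = 0 ∨ q % 3 = 1 ∨ q % 3 = 2 := by omega
    rcases h1 with h1 | h1 | h1
    · exact Or.inl (Nat.dvd_of_mod_eq_zero h1)
    · right
      have h2 : q ^ 2 % 3 = 1 := by rw [Nat.pow_mod, h1]
      have h3 := Nat.one_le_pow 2 q hq
      omega
    · right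
      have h2 : q ^ 2 % 3 = 1 := by rw [Nat.pow_mod, h1]
      have h3 := Nat.one_le_pow 2 q hq
      omega
  rcases h with h | h
  · exact ((((h.trans (dvd_pow_self q (by norm_num))).mul_right _).mul_right _).mul_right _).mul_right _
  · exact (((h.mul_left _).mul_right _).mul_right _).mul_right _

/-- **`F₄(q)`, `q > 2`: for no prime `v` all `v`-singular elements are conjugate.** -/
theorem nsc_F4 (hq2 : 2 < Fintype.card F) : NSC ↥(chevF4.group F) := by
  intro v hv hd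
  have hT : Finite ↥(chevF4.group F) := inferInstance
  have hcard := Nat.card_eq_fintype_card (α := F)
  have hq : 1 ≤ Fintype.card F := Fintype.card_pos
  obtain ⟨p, hpc⟩ := CharP.exists F
  obtain ⟨n, hp, hn⟩ := FiniteField.card F p
  have hpF : Fact p.Prime := ⟨hp⟩
  have hout := Cfsg.Agent.S2122.result p (n : ℕ) hn
  have hn0 := n.pos
  have key : v = 2 ∨ H94.PG.Adj ↥(chevF4.group F) v 2 ∨ v ∣ N8 (Fintype.card F) ∧ v ≠ 2 ∨ v ∣ N12 (Fintype.card F) := by
    rcases adj_F4 F hv hd with h | h | h | h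
    · exact Or.inl h
    · exact Or.inr (Or.inl h)
    · by_cases h2 : v = 2
      · exact Or.inl h2
      refine Or.inr (Or.inr (Or.inl ⟨?_, h2⟩))
      have h1 := Cfsg.Agent.H378.CycTab.dvd8 hv h
      rw [Cfsg.Agent.H378.CycTab.pv8, hcard] at h1
      have : ((N8 (Fintype.card F) : ℕ) : ℤ) = (Fintype.card F : ℤ) ^ 4 + 1 := by unfold N8; push_cast; ring
      rw [← this] at h1
      exact Int.natCast_dvd_natCast.1 h1
    · refine Or.inr (Or.inr (Or.inr ?_))
      have h1 := Cfsg.Agent.H378.CycTab.dvd12 hv h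
      rw [Cfsg.Agent.H378.CycTab.pv12, hcard] at h1
      rw [← cast_N12] at h1
      exact Int.natCast_dvd_natCast.1 h1
  rcases key with rfl | h | ⟨h, h2⟩ | h
  · have h3 : H94.PG.Adj ↥(chevF4.group F) 3 2 := by
      rcases adj_F4 F Nat.prime_three three_dvd_F4 with h | h | h | h
      · exact absurd h (by norm_num)
      · exact h
      · exact absurd h (od_three _).1
      · exact absurd h (od_three _).2
    exact not_SC_of_adj' h3
  · exact not_SC_of_adj h
  · have hm : ((N8 (Fintype.card F) : ℕ) : ℤ) = 1 + (Fintype.card F : ℤ) ^ 4 := by unfold N8; push_cast; ring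
    refine not_SC_of_cyc hv (card_F4_8 rfl hm hv (by rw [← hm]; exact Int.natCast_dvd_natCast.2 h) h2)
      (K := (Fintype.card F) ^ 24 * ((Fintype.card F) ^ 2 - 1) * ((Fintype.card F) ^ 6 - 1) *
        ((Fintype.card F) ^ 4 - 1) * ((Fintype.card F) ^ 12 - 1)) (by rw [card_F4 F, f4_card8])
      (f4_mod8 hq hv h) (by norm_num) (o := Nat.gcd 2 p * n) hout.le (fun hN => ?_)
    rw [← hN]
    unfold N8
    rw [Nat.add_sub_cancel, hn]
    -- `q` is even or not
    by_cases hp2 : p = 2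
    · subst hp2
      have hn2 : 2 ≤ (n : ℕ) := by
        by_contra hlt
        have : (n : ℕ) = 1 := by omega
        rw [this] at hn
        omega
      have := lin_lt_pow hn2
      rw [← pow_mul, mul_comm (n : ℕ) 4, Nat.gcd_self]
      omega
    · exfalso
      -- `q ^ 4 + 1` is even
      have hodd : Odd (Fintype.card F) := by rw [hn]; exact (hp.odd_of_ne_two hp2).pow
      have h5 : Even (N8 (Fintype.card F)) := by unfold N8; exact (hodd.pow).add_odd odd_one
      rw [hN] at h5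
      exact h2 ((hv.even_iff).1 h5)
  · have hm : ((N12 (Fintype.card F) : ℕ) : ℤ) = 1 - (Fintype.card F : ℤ) ^ 2 + (Fintype.card F : ℤ) ^ 4 := by
      rw [cast_N12]; ring
    refine not_SC_of_cyc hv (card_F4_12 rfl hm hv (by rw [← hm]; exact Int.natCast_dvd_natCast.2 h))
      (K := (Fintype.card F) ^ 24 * ((Fintype.card F) ^ 2 - 1) * ((Fintype.card F) ^ 6 - 1) *
        ((Fintype.card F) ^ 8 - 1) * (((Fintype.card F) ^ 6 - 1) * ((Fintype.card F) ^ 2 + 1)))
      (by rw [card_F4 F, f4_card12]) (f4_mod12 hq hv h) (by norm_num) (o := Nat.gcd 2 p * n) hout.le (fun hN => ?_)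
    rw [← hN]
    have h1 : (n : ℕ) < Fintype.card F := by rw [hn]; exact f_lt_pow hp.two_le
    have h2 : Nat.gcd 2 p ≤ 2 := Nat.gcd_le_left _ (by norm_num)
    have h4 : 1 < Nat.gcd 2 p → 4 ≤ Fintype.card F := by
      intro h
      have h5 : Nat.gcd 2 p ∣ 2 := Nat.gcd_dvd_left _ _
      have h6 : Nat.gcd 2 p = 2 := by
        rcases (Nat.dvd_prime Nat.prime_two).1 h5 with h | h
        · omega
        · exact h
      have h7 : p = 2 := ((Nat.prime_dvd_prime_iff_eq Nat.prime_two hp).1 (h6 ▸ Nat.gcd_dvd_right 2 p)).symm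
      subst h7
      have : (n : ℕ) ≠ 1 := by
        intro h8
        rw [h8] at hn
        omega
      calc 4 = 2 ^ 2 := by norm_num
        _ ≤ 2 ^ (n : ℕ) := Nat.pow_le_pow_right (by norm_num) (by omega)
        _ = _ := hn.symm
    unfold N12
    rw [Nat.add_sub_cancel]
    generalize Fintype.card F = q at *
    generalize Nat.gcd 2 p = g at *
    have e : q ^ 4 - q ^ 2 = q ^ 2 * (q ^ 2 - 1) := by
      rw [Nat.mul_sub, mul_one]; congr 1; ring
    rw [e]
    have h9 : 9 ≤ q ^ 2 := by nlinarith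
    rcases Nat.lt_or_ge 1 g with h10 | h10
    · have h11 := h4 h10
      have h12 : g * n * 12 ≤ 2 * (q - 1) * 12 := by
        have : g * (n : ℕ) ≤ 2 * (q - 1) := Nat.mul_le_mul h2 (by omega)
        exact Nat.mul_le_mul_right _ this
      obtain ⟨k, rfl⟩ : ∃ k, q = k + 4 := ⟨q - 4, by omega⟩
      have e2 : (k + 4) ^ 2 - 1 = k ^ 2 + 8 * k + 15 := by
        have : (k + 4) ^ 2 = k ^ 2 + 8 * k + 15 + 1 := by ring
        omega
      rw [e2]
      have e3 : 2 * (k + 4 - 1) * 12 = 24 * k + 72 := by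
        have : k + 4 - 1 = k + 3 := by omega
        rw [this]; ring
      rw [e3] at h12
      nlinarith
    · have h12 : g * n * 12 ≤ 1 * (q - 1) * 12 := by
        have : g * (n : ℕ) ≤ 1 * (q - 1) := Nat.mul_le_mul h10 (by omega)
        exact Nat.mul_le_mul_right _ this
      obtain ⟨k, rfl⟩ : ∃ k, q = k + 3 := ⟨q - 3, by omega⟩
      have e2 : (k + 3) ^ 2 - 1 = k ^ 2 + 6 * k + 8 := by
        have : (k + 3) ^ 2 = k ^ 2 + 6 * k + 8 + 1 := by ring
        omega
      rw [e2]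
      have e3 : 1 * (k + 3 - 1) * 12 = 12 * k + 24 := by
        have : k + 3 - 1 = k + 2 := by omega
        rw [this]; ring
      rw [e3] at h12
      nlinarith

end F4

end Cfsg.Agent.H622.Der
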