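import Cfsg.Agent.H325.IsoExc

/-!
# Proper subgroups of `F₄(q)` of index prime to `p` (helper622)

`not_dvd_F4` : they lie in parabolic subgroups, so their order is not divisible by the primitive prime divisors of
`q ^ 8 - 1` and `q ^ 12 - 1`.
-/

set_option autoImplicit false
set_option linter.unusedSectionVars false

namespace Cfsg.Agent.H622.Der

open Cfsg
open CoxeterSystem Cfsg.Agent.ChevalleyStructure.CoxeterGeom Cfsg.Agent.Tits.Roots Cfsg.Agent.Tits.Core
open Cfsg.Agent.Nodes Cfsg.Agent.Nodes.BNOf Cfsg.Agent.Nodes.RGDLib Cfsg.Agent.Nodes.RGDChev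
open Cfsg.Agent.ChevalleyStructure Cfsg.Agent.ChevalleyStructure.Elts Cfsg.Agent.ChevalleyStructure.NPerm
  Cfsg.Agent.ChevalleyStructure.CoxeterGeomTypes
open Cfsg.Agent.Omega.EH3.Kf Cfsg.Agent.Omega.EH3.Kf.Lev
open Cfsg.Agent.ParSys.RootCount Cfsg.Agent.ParSys.RootExc
open Cfsg.Agent.H138.SqBase Cfsg.Agent.H138.SqChev Cfsg.Agent.H138.SqChev2
open Cfsg.Agent.H396 (Conn)
open Cfsg.Agent.H325.Loc Cfsg.Agent.H325.IsoRgd Cfsg.Agent.H325.IsoExc Cfsg.Agent.KFacts.RgdFilt
open Cfsg.Agent.Tits.RootComb Cfsg.Agent.Nodes.Comb Cfsg.Agent.Nodes.Reps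
  Cfsg.Agent.Nodes.StabComb Cfsg.Agent.Nodes.Bruhat Cfsg.Agent.Nodes.LeviDec Cfsg.Agent.Nodes.NormalForm
  Cfsg.Agent.ParSys Cfsg.Agent.Tits.Exchange Cfsg.Agent.Omega.EH3Close.CountU
open Cfsg.Lie

section Tab

variable {k : ℕ} {W Y : Type*} [Group W] [Group Y] {M : CoxeterMatrix (Fin k)}
  {cs : CoxeterSystem M W} {A : Fin k → Fin k → ℤ} {h : IsCartan M A} {p : ℕ} {T : Subgroup Y} {n : Fin k → Y}
  {X : (Fin k → ℤ) → Subgroup Y}

/-- **Proper subgroups of index prime to `p`.** -/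
theorem not_dvd_of_tab [Finite W] [Finite Y] [Fact p.Prime] (R : RGD cs h p T n X)
    (hG : Nodes.RGDLib.G1 cs h X = ⊤)
    {L : List (Fin k → ℤ)} (hR : PosRoots A L.toFinset) (hN : L.Nodup) {len : (Fin k → ℤ) → ℕ}
    (hlen : ∀ i, ∀ v ∈ L, v ≠ Pi.single i 1 → len (refl A i v) = len v)
    {q d u : ℕ} (hq2 : 2 ≤ q) (hpq : p ∣ q) (hq : ∀ i, Nat.card (X (sr i)) = q ^ len (Pi.single i 1))
    (hu : H436.Prim q d u) (hd : 2 ≤ d) (hT : ¬ u ∣ Nat.card T)
    {Tb : List (ℕ × ℕ)} (hTb : (L.map fun v => (supp v, len v)) = Tb) {bad : List ℕ}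
    (hchk : chk k d Tb bad = true)
    (hbad : ∀ J : Finset (Fin k), mJ J ∈ bad →
      ∃ J₁ : Finset (Fin k), J₁ ⊆ J ∧ J₁.Nonempty ∧ J₁ ≠ J ∧ ∀ a ∈ J₁, ∀ b ∈ J, b ∉ J₁ → M a b = 2)
    {P : Subgroup Y} (hP : P ≠ ⊤) (hpi : ¬ p ∣ P.index) : ¬ u ∣ Nat.card P := by
  have hup : u ≠ p := by
    rintro rfl
    exact hu.not_dvd hpq
  obtain ⟨g, K, hK, hle'⟩ := exists_le_PJ R hG P hP hpi
  refine H396.Crit.not_dvd_card R hu.prime hup hT ?_ hK hle'
  intro J hJ hJ' hconn
  have hcard : Nat.card (RGD.Sup X (PosJ cs h (J : Set (Fin k)))) = q ^ H138.SqBase.NN Tb (mJ J) := by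
    classical
    rw [card_UJ R hR (wt := fun v => q ^ len v) (fun i v hv hne => by
      rw [hlen i v (List.mem_toFinset.1 hv) hne]) hq (J : Set (Fin k))]
    have e1 : (L.toFinset.filter fun v => ∀ i, i ∉ (J : Set (Fin k)) → v i = 0) =
        (L.filter fun v => supp v &&& mJ J == supp v).toFinset := by
      ext v
      rw [Finset.mem_filter, List.mem_toFinset, List.mem_toFinset, List.mem_filter, beq_iff_eq, supp_land]
    rw [e1, List.prod_toFinset _ (hN.filter _)]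
    unfold H138.SqBase.NN
    rw [← hTb]
    have e2 : ∀ L' : List (Fin k → ℤ), (L'.map fun v => q ^ len v).prod = q ^ (L'.map len).sum := by
      intro L'
      induction L' with
      | nil => simp
      | cons a L' ih => rw [List.map_cons, List.prod_cons, ih, List.map_cons, List.sum_cons, pow_add]
    rw [e2, List.filter_map, List.map_map]
    rfl
  rw [hcard, ← pc_mJ J]
  refine not_dvd_of_okB hq2 hu hd ?_
  have h1 := (List.all_eq_true.1 hchk) (mJ J) (List.mem_range.2 (msk_lt _))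
  rw [Bool.or_eq_true, Bool.or_eq_true, Bool.or_eq_true] at h1
  rcases h1 with ((h1 | h1) | h1) | h1
  · exfalso
    rw [beq_iff_eq] at h1
    have h2 : mJ (∅ : Finset (Fin k)) = 0 := by
      apply Nat.eq_of_testBit_eq
      intro j
      rw [Nat.zero_testBit]
      by_cases hj : j < k
      · have h1 := testBit_msk (fun i : Fin k => decide (i ∈ (∅ : Finset (Fin k)))) ⟨j, hj⟩
        simpa [mJ] using h1
      · exact Nat.testBit_lt_two_pow (lt_of_lt_of_le (msk_lt _) (Nat.pow_le_pow_right two_pos (not_lt.1 hj)))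
    have h3 := mJ_inj (h1.trans h2.symm)
    rw [h3] at hJ
    exact Finset.not_nonempty_empty hJ
  · exfalso
    rw [beq_iff_eq] at h1
    apply hJ'
    ext i
    simp only [Finset.mem_univ, iff_true]
    have h2 : (2 ^ k - 1).testBit i = true := by
      rw [Nat.testBit_two_pow_sub_one]
      exact decide_eq_true i.2
    rw [← h1] at h2
    simp only [mJ, testBit_msk] at h2
    simpa using h2
  · exfalso
    obtain ⟨J₁, h2, h3, h4, h5⟩ := hbad J (List.contains_iff_mem.1 h1)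
    obtain ⟨a, ha, b, hb, hb1, hab⟩ := hconn J₁ h2 h3 h4
    exact hab (h5 a ha b hb hb1)
  · exact h1

end Tab

section Gen

variable {D : ChevalleyDatum} {l : ℕ} {M : CoxeterMatrix (Fin l)} (hp : IsType D l M) (K : Type)
  [Field K]

include hp

theorem not_dvd_chev [Fintype K] {p : ℕ} [Fact p.Prime] [CharP K p]
    {A₀ : Fin l → Fin l → ℤ} (hA : cartanOf D l = A₀) {L : List (Fin l → ℤ)}
    (hR : PosRoots A₀ L.toFinset) (hN : L.Nodup) {d : ℕ} (hd : 3 ≤ d)
    {Tb : List (ℕ × ℕ)} (hTb : (L.map fun v => (supp v, 1)) = Tb) {bad : List ℕ} (hchk : chk l d Tb bad = true)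
    (hbad : ∀ J : Finset (Fin l), mJ J ∈ bad →
      ∃ J₁ : Finset (Fin l), J₁ ⊆ J ∧ J₁.Nonempty ∧ J₁ ≠ J ∧ ∀ a ∈ J₁, ∀ b ∈ J, b ∉ J₁ → M a b = 2)
    {u : ℕ} (hu : H436.Prim (Fintype.card K) d u) {P : Subgroup ↥(D.group K)} (hP : P ≠ ⊤) (hpi : ¬ p ∣ P.index) :
    ¬ u ∣ Nat.card P := by
  have hW : Finite M.Group := finite_W hp M.toCoxeterSystem
  subst hA
  refine not_dvd_of_tab (rgd (K := K) hp M.toCoxeterSystem p) (G1_eq_top hp _) hR hN
    (len := fun _ => 1) (fun _ _ _ _ => rfl) (Fintype.one_lt_card (α := K)) ?_ (fun i => ?_) hu (by omega) ?_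
    hTb hchk hbad hP hpi
  · obtain ⟨k, hk⟩ := FiniteField.card K p
    rw [hk.2]
    exact dvd_pow_self p k.ne_zero
  · rw [pow_one]
    exact card_X hp K i
  · refine not_dvd_of_pow (e := 1) hu (by intro h1; have := Nat.le_of_dvd one_pos h1; omega) ?_
    intro t ht
    rw [pow_one]
    apply Subtype.ext
    rw [SubgroupClass.coe_pow]
    exact diag_pow hp K (Subgroup.mem_subgroupOf.1 ht)

end Gen

/-- **proper subgroups of `F₄(q)` of index prime to `p`** -/
theorem not_dvd_F4 {F : Type} [Field F] [Fintype F] {p : ℕ} [Fact p.Prime] [CharP F p] {w d : ℕ} (hd : d = 8 ∨ d = 12)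
    (hu : H436.Prim (Fintype.card F) d w) {P : Subgroup ↥(chevF4.group F)} (hP : P ≠ ⊤) (hpi : ¬ p ∣ P.index) :
    ¬ w ∣ Nat.card P := by
  have hp := Omega.ML.Ex.Lie2.DatF4.isType_F4
  refine not_dvd_chev (p := p) hp F
    (A₀ := BF) (by decide +kernel)
    (L := LF) posRoots_F (by decide +kernel) (d := d) (by omega) rfl (bad := [11, 13])
    ?_ (fun J hJ => ?_) hu hP hpi
  · rcases hd with rfl | rfl
    · decide +kernel
    · decide +kernel
  · simp only [List.mem_cons, List.not_mem_nil, or_false] at hJ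
    have e1 : mJ ({0, 1, 3} : Finset (Fin 4)) = 11 := by decide +kernel
    have e2 : mJ ({0, 2, 3} : Finset (Fin 4)) = 13 := by decide +kernel
    rcases hJ with hJ | hJ
    · obtain rfl := mJ_inj (hJ.trans e1.symm)
      exact ⟨{3}, by decide +kernel, by decide +kernel, by decide +kernel, fun a ha b => dis_F4_1 a b ha⟩
    · obtain rfl := mJ_inj (hJ.trans e2.symm)
      exact ⟨{0}, by decide +kernel, by decide +kernel, by decide +kernel, fun a ha b => dis_F4_2 a b ha⟩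

end Cfsg.Agent.H622.Der
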