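import Cfsg.Agent.H622.Der.Tor
import Cfsg.Agent.H622.Der.NscF4
import Cfsg.Agent.H622.Der.OddIdx
import Cfsg.Agent.H180.ElSuz
import Cfsg.Agent.FourTwo.ClassSep
import Cfsg.Agent.S2468

/-!
# S3500: the row `F₄(2)` (helper622)

* `seven` : two elements of order 7, the second has no conjugate in the group generated by the first
* `row_F42` : the row of `F₄(2)`
-/

set_option autoImplicit false
set_option maxRecDepth 100000

namespace Cfsg.Agent.H622.Der

open Subgroup Cfsg Cfsg.Lie Cfsg.Agent.H439.Der Cfsg.Agent.H938.Sax Cfsg.Agent.OrdDiv Cfsg.Agent.H946.Num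
open Cfsg.Agent.FourTwo.Base Cfsg.Agent.FourTwo.ClassSep
open Cfsg.Agent.H257.El (Top card_quot_mul Known exists_top exists_lift conj_of_cyclic cyclic_of_sq okPow_spec)
open Cfsg.Agent.H180.ElS (exists_surv_of_dvd)
open Cfsg.Agent.H129.CycCard (CycCard card_F4_8 card_F4_12)

/-! ### Elements of order 7 -/

/-- repetition of a word -/
def rep : ℕ → List ℕ → List ℕ
  | 0, _ => []
  | n + 1, w => w ++ rep n w

theorem wd_rep (k : ℕ) (w : List ℕ) : wd (rep k w) = wd w ^ k := by
  induction k with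
  | zero => rfl
  | succ k ih => rw [rep, wd_append, ih, pow_succ']

/-- elements of order 7 of the long and short `SL₃(2)` -/
def w7 : List ℕ := [24, 25, 22, 23]
def v7 : List ℕ := [33, 27, 20, 14]

theorem iv_v7 : iv v7 = (18, 24) := by decide +kernel

theorem orderOf_wd {w : List ℕ} (h1 : chk (rep 7 w) [] = true) (h2 : (w.all fun r => decide (r < 48)) = true)
    (h3 : iv w ≠ iv []) : orderOf (wd w) = 7 := by
  have h4 : wd w ^ 7 = 1 := by
    rw [← wd_rep, wd_eq _ _ h1]; rfl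
  have h5 : wd w ≠ 1 := by
    intro h
    apply h3
    rw [← rk2_wd w h2, ← rk2_wd [] (by decide), h]; rfl
  exact orderOf_eq_prime h4 h5

theorem order_w7 : orderOf (wd w7) = 7 := orderOf_wd (by decide +kernel) (by decide) (by decide +kernel)

theorem order_v7 : orderOf (wd v7) = 7 := orderOf_wd (by decide +kernel) (by decide) (by decide +kernel)

theorem iv_rep : ∀ k < 7, iv (rep k w7) ≠ (18, 24) := by decide +kernel

theorem all_rep : ∀ k < 7, ((rep k w7).all fun r => decide (r < 48)) = true := by decide +kernel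

/-- **Two classes of subgroups of order 7.** -/
theorem not_conj7 (g : LL) : g * wd v7 * g⁻¹ ∉ zpowers (wd w7) := by
  intro h
  obtain ⟨j, hj⟩ := mem_zpowers_iff.1 h
  have h1 : wd w7 ^ j = wd w7 ^ (j % 7).toNat := by
    rw [← zpow_natCast, Int.toNat_of_nonneg (Int.emod_nonneg _ (by norm_num))]
    have := zpow_mod_orderOf (wd w7) j
    rw [order_w7] at this
    exact this.symm
  have hlt : (j % 7).toNat < 7 := by
    have := Int.emod_lt_of_pos j (b := 7) (by norm_num)
    omega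
  rw [h1, ← wd_rep] at hj
  have h2 := rk2_conj g (wd v7)
  rw [← hj, rk2_wd _ (all_rep _ hlt), rk2_wd _ (by decide), iv_v7] at h2
  exact iv_rep _ hlt h2

/-- a subgroup of order not divisible by 49 misses one of the classes -/
theorem exists_missing7 {M : Subgroup LL} (h : ¬ 7 ^ 2 ∣ Nat.card M) :
    ∃ y : LL, orderOf y = 7 ∧ ∀ g : LL, g * y * g⁻¹ ∉ M := by
  have h7 : Fact (Nat.Prime 7) := ⟨by norm_num⟩
  by_contra hcon
  push Not at hcon
  obtain ⟨a, ha⟩ := hcon _ order_w7
  obtain ⟨b, hb⟩ := hcon _ order_v7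
  have hx' : orderOf (⟨a * wd w7 * a⁻¹, ha⟩ : M) = 7 := by
    rw [Subgroup.orderOf_mk, orderOf_conj, order_w7]
  have hy' : orderOf (⟨b * wd v7 * b⁻¹, hb⟩ : M) = 7 := by
    rw [Subgroup.orderOf_mk, orderOf_conj, order_v7]
  obtain ⟨g, hg⟩ := conj_of_cyclic (fun P => cyclic_of_sq h P) hx' hy'
  obtain ⟨j, hj⟩ := mem_zpowers_iff.1 hg
  have h1 : (a * wd w7 * a⁻¹) ^ j = (g : LL) * (b * wd v7 * b⁻¹) * (g : LL)⁻¹ := congrArg Subtype.val hj
  rw [conj_zpow] at h1
  apply not_conj7 (a⁻¹ * g * b)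
  refine mem_zpowers_iff.2 ⟨j, ?_⟩
  calc wd w7 ^ j = a⁻¹ * (a * wd w7 ^ j * a⁻¹) * a := by group
    _ = a⁻¹ * ((g : LL) * (b * wd v7 * b⁻¹) * (g : LL)⁻¹) * a := by rw [h1]
    _ = _ := by group

/-! ### The maximal subgroups -/

theorem card_LL : Nat.card LL = 3311126603366400 := by
  rw [card_F4 (ZMod 2), ZMod.card]
  norm_num

/-- the factors of the order -/
def lF : List (ℕ × ℕ) := [(2, 24), (3, 6), (5, 2), (7, 2), (13, 1), (17, 1)]

theorem valid_lF : valid lF 3311126603366400 = true := by decide +kernel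

theorem p17 : Nat.Prime 17 := by norm_num
theorem p13 : Nat.Prime 13 := by norm_num
theorem p7 : Nat.Prime 7 := by norm_num

theorem cyc17 : CycCard LL 17 17 1 :=
  card_F4_8 (F := ZMod 2) rfl (by rw [ZMod.card]; norm_num) p17 (by rw [ZMod.card]; norm_num) (by norm_num)

theorem cyc13 : CycCard LL 13 13 1 :=
  card_F4_12 (F := ZMod 2) rfl (by rw [ZMod.card]; norm_num) p13 (by rw [ZMod.card]; norm_num)

/-- `PSL₃(16)` has elements of order 91 -/
theorem psl16 {S : Type} [Group S] (h : Real (.psl 3 16) S) (hc : Nat.card S = ordN (.psl 3 16)) :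
    ∃ x : S, orderOf x = 13 * 7 := by
  obtain ⟨F, _, _, hF, ⟨e⟩⟩ := h
  have hp2 : Fact (Nat.Prime 2) := ⟨Nat.prime_two⟩
  obtain ⟨p, hp⟩ := CharP.exists F
  have hpp : Fact p.Prime := ⟨CharP.char_is_prime F p⟩
  have hpd : p ∣ 2 ^ 4 := by
    have h1 : p ∣ Fintype.card F := (CharP.cast_eq_zero_iff F p _).1 (FiniteField.cast_card_eq_zero F)
    rw [hF] at h1
    exact h1
  obtain rfl : p = 2 := (Nat.prime_dvd_prime_iff_eq hpp.out Nat.prime_two).1 (hpp.out.dvd_of_dvd_pow hpd)
  have hc2 : Nat.card (Matrix.ProjectiveSpecialLinearGroup (Fin 3) F) = 1425715200 := by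
    rw [← Nat.card_congr e.toEquiv, hc]
    decide +kernel
  have o7 : orderOf ((16 : ℕ) : ZMod 7) = 3 := by
    rw [orderOf_eq_prime_iff (p := 3)]
    exact ⟨by decide, by decide⟩
  have o13 : orderOf ((16 : ℕ) : ZMod 13) = 3 := by
    rw [orderOf_eq_prime_iff (p := 3)]
    exact ⟨by decide, by decide⟩
  have h := S2468.result (F := F) 2 3 (by norm_num) (by norm_num) 13 7 p13 p7 (by norm_num) (by norm_num)
    (by norm_num) (by norm_num) (by norm_num) (by rw [hc2]; norm_num) (by rw [hc2]; norm_num) 3 3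
    (by rw [hF, o13]) (by rw [hF, o7]) (by norm_num) le_rfl
  by_contra hcon
  have h1 : 13 * 7 ∉ Set.range (orderOf : Matrix.ProjectiveSpecialLinearGroup (Fin 3) F → ℕ) := by
    rintro ⟨y, hy⟩
    exact hcon ⟨e.symm y, by rw [MulEquiv.orderOf_eq, hy]⟩
  exact (h.1 h1).2 dvd_rfl

/-- no proper subgroup has order divisible by `13 * 17` -/
theorem not_both (tab : OrderTable.{0}) (known : Known.{0}) {M : Subgroup LL} (hM : M ≠ ⊤)
    (h17 : 17 ∣ Nat.card M) : ¬ 13 ∣ Nat.card M := by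
  intro h13
  obtain ⟨O, hO, N, ht, -, g, hg, hr, hc⟩ := exists_surv_of_dvd tab known (T := LL) (r := 17) (s := 13) card_LL
    valid_lF p17 p13 (no_ord p17 p13 (by norm_num) cyc17) (by decide +kernel) (by norm_num) hM h17 h13
  have h1 : ((Cfsg.Agent.H257.El.surv 3311126603366400 lF 17 [13]).all fun g => g == .psl 3 16) = true := by decide +kernel
  rw [List.all_eq_true] at h1
  have h2 : g = .psl 3 16 := by simpa using h1 g hg
  subst h2
  obtain ⟨x, hx⟩ := psl16 hr hc
  obtain ⟨y, hy⟩ := QuotientGroup.mk'_surjective O (x : M ⧸ O)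
  obtain ⟨k, hk⟩ := exists_lift (QuotientGroup.mk' O) (z := y) (n := 13 * 7) (by rw [hy, Subgroup.orderOf_coe, hx])
  exact no_ord p13 p7 (by norm_num) cyc13 ((y ^ k : M) : LL) (by rw [Subgroup.orderOf_coe, hk])

/-- **a maximal subgroup of order divisible by 17 and 7: not by 49** -/
theorem not_dvd_49 (tab : OrderTable.{0}) (known : Known.{0}) {M : Subgroup LL} (hM : M ≠ ⊤)
    (h17 : 17 ∣ Nat.card M) (h7 : 7 ∣ Nat.card M) : ¬ 7 ^ 2 ∣ Nat.card M := by
  intro h49
  have hno := no_ord p17 p7 (by norm_num) cyc17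
  obtain ⟨O, hO, N, ht, -, g, hg, hr, hc⟩ := exists_surv_of_dvd tab known (T := LL) (r := 17) (s := 7) card_LL
    valid_lF p17 p7 hno (by decide +kernel) (by norm_num) hM h17 h7
  have h1 : ((Cfsg.Agent.H257.El.surv 3311126603366400 lF 17 [7]).all fun g => ordN g % 49 != 0) = true := by decide +kernel
  rw [List.all_eq_true] at h1
  have h2 := h1 g hg
  have hMn : Nat.card M ∣ 3311126603366400 := by
    rw [← card_LL]
    exact Subgroup.card_subgroup_dvd_card M
  have h3 : 7 ^ 2 ∣ Nat.card N := by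
    refine ht.pow_dvd_iff p7 (by norm_num) (fun z => ?_) (fun b hb hd => ?_) (by norm_num) h49
    · rw [← Subgroup.orderOf_coe]
      exact hno z
    · exact okPow_spec valid_lF (by decide +kernel) p7 hb (hd.trans hMn)
  have h4 : Nat.card N % 49 = 0 := Nat.mod_eq_zero_of_dvd h3
  rw [← hc, h4] at h2
  exact absurd h2 (by decide)

theorem prim8 : H436.Prim (Fintype.card (ZMod 2)) 8 17 := by
  refine ⟨p17, fun m => ?_, by rw [ZMod.card]; norm_num⟩
  rw [ZMod.card]
  have o : orderOf ((2 : ℕ) : ZMod 17) = 8 := by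
    have : (8 : ℕ) = 2 ^ (2 + 1) := by norm_num
    rw [this]
    exact orderOf_eq_prime_pow (by decide) (by decide)
  rw [← o, orderOf_dvd_iff_pow_eq_one, ← ZMod.natCast_eq_zero_iff, Nat.cast_sub (Nat.one_le_pow _ _ (by norm_num)),
    sub_eq_zero]
  push_cast
  rfl

theorem prim12 : H436.Prim (Fintype.card (ZMod 2)) 12 13 := by
  refine ⟨p13, fun m => ?_, by rw [ZMod.card]; norm_num⟩
  rw [ZMod.card]
  have o : orderOf ((2 : ℕ) : ZMod 13) = 12 := by
    refine orderOf_eq_of_pow_and_pow_div_prime (by norm_num) (by decide) fun p hp hd => ?_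
    have hd' : p ∣ 2 ^ 2 * 3 := hd
    rcases (Nat.Prime.dvd_mul hp).1 hd' with h | h
    · obtain rfl := (Nat.prime_dvd_prime_iff_eq hp Nat.prime_two).1 (hp.dvd_of_dvd_pow h)
      decide
    · obtain rfl := (Nat.prime_dvd_prime_iff_eq hp Nat.prime_three).1 h
      decide
  rw [← o, orderOf_dvd_iff_pow_eq_one, ← ZMod.natCast_eq_zero_iff, Nat.cast_sub (Nat.one_le_pow _ _ (by norm_num)),
    sub_eq_zero]
  push_cast
  rfl

/-- **the row `F₄(2)`** -/
theorem row_F42 (tab : OrderTable.{0}) (known : Known.{0}) : Row LL := by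
  intro M hM
  have hne : M ≠ ⊤ := hM.1
  have hLc := card_LL
  have hT : Finite LL := inferInstance
  have d17 : 17 ∣ Nat.card LL := by rw [hLc]; norm_num
  have d13 : 13 ∣ Nat.card LL := by rw [hLc]; norm_num
  have d7 : 7 ∣ Nat.card LL := by rw [hLc]; norm_num
  have two17 : ¬ 17 ∣ Nat.card M → ¬ 13 ∣ Nat.card M → Two LL M := fun h1 h2 =>
    Two.of_two_primes p17 p13 (by norm_num) d17 d13 h1 h2
  by_cases h24 : 2 ^ 24 ∣ Nat.card M
  · left
    have hidx : ¬ 2 ∣ M.index := by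
      intro hd
      have h1 : 2 ^ 24 * 2 ∣ Nat.card M * M.index := Nat.mul_dvd_mul h24 hd
      rw [Subgroup.card_mul_index, hLc] at h1
      exact absurd h1 (by norm_num)
    have : Fact (Nat.Prime 2) := ⟨Nat.prime_two⟩
    exact two17 (not_dvd_F4 (F := ZMod 2) (p := 2) (Or.inl rfl) prim8 hne hidx)
      (not_dvd_F4 (F := ZMod 2) (p := 2) (Or.inr rfl) prim12 hne hidx)
  have hns : NoSyl LL M := by
    refine noSyl_of (s := 2) (k := 1) (e := 24) Nat.prime_two ?_ (by rw [hLc]; norm_num) h24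
    rw [Cfsg.Agent.S2122.result (F := ZMod 2) 2 1 (by rw [ZMod.card]; norm_num)]
    norm_num
  by_cases h17 : 17 ∣ Nat.card M
  · have h13 := not_both tab known hne h17
    by_cases h7 : 7 ∣ Nat.card M
    · right
      refine ⟨?_, hns⟩
      obtain ⟨y, hy, hyM⟩ := exists_missing7 (not_dvd_49 tab known hne h17 h7)
      have := Fact.mk p13
      obtain ⟨x, hx⟩ := exists_prime_orderOf_dvd_card' 13 d13
      exact twoT_of_class h13 (x := x) (by rw [hx]) (by rw [hy]; norm_num) hyM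
    · exact Or.inl (Two.of_two_primes p13 p7 (by norm_num) d13 d7 h13 h7)
  · right
    refine ⟨?_, hns⟩
    obtain ⟨x, hx, hC, hN⟩ := card_norm p17 cyc17 (K := 194772153139200) (n := 8) (by rw [hLc])
      (by decide) (by norm_num) (by norm_num)
    exact twoT_of_norm p17 h17 hx hC (n := 8) (by rw [hN, mul_comm]) (by norm_num)

end Cfsg.Agent.H622.Der
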