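import Cfsg.Agent.H622.Der.Sock
import Cfsg.Agent.SigTab.AltFFour
import Cfsg.Agent.H325.IsoRgd
import Cfsg.Agent.H439.Der.Three

/-!
# S3502: the row `F₄(2)` (helper622)

* `order_w16`, `order_w28` : elements of order 16 and 28
* `odd_core` : Borel–Tits
* `no16_of17`, `no_of13` : a proper subgroup of order divisible by `17 · 7` has no elements of order 16; one of order
  divisible by `13 · 5 · 7` has no elements of order 16 or none of order 28
* `odd_index` : a non-maximal subgroup of odd index has order prime to 5 or to 7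
* `rowW_F42` : the weak row
-/

set_option autoImplicit false
set_option maxRecDepth 100000
set_option linter.unusedSectionVars false

namespace Cfsg.Agent.H622.Der

open Subgroup Cfsg Cfsg.Lie Cfsg.Agent.H439.Der Cfsg.Agent.H938.Sax Cfsg.Agent.OrdDiv Cfsg.Agent.H946.Num
open Cfsg.Agent.FourTwo.Base Cfsg.Agent.FourTwo.ClassSep
open Cfsg.Agent.H257.El (Top card_quot_mul Known exists_top exists_lift conj_of_cyclic cyclic_of_sq okPow_spec Sit.not_comm_of_dvd)
open Cfsg.Agent.H180.ElS (exists_surv_of_dvd)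

/-! ### words -/

def w16 : List ℕ := [33, 27, 25, 24]
def w28 : List ℕ := w7 ++ [3, 33]

theorem wd_ne {w : List ℕ} (h2 : (w.all fun r => decide (r < 48)) = true) (h3 : iv w ≠ iv []) : wd w ≠ 1 := by
  intro h
  apply h3
  rw [← rk2_wd w h2, ← rk2_wd [] (by decide), h]
  rfl

theorem order_w16 : orderOf (wd w16) = 16 := by
  have h1 : (16 : ℕ) = 2 ^ (3 + 1) := by norm_num
  have h2 : Fact (Nat.Prime 2) := ⟨Nat.prime_two⟩
  rw [h1]
  refine orderOf_eq_prime_pow ?_ ?_
  · rw [← wd_rep]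
    exact wd_ne (by decide +kernel) (by decide +kernel)
  · have h4 : wd (rep 16 w16) = wd [] := wd_eq _ _ (by decide +kernel)
    rw [wd_rep] at h4
    exact h4

theorem order_w28 : orderOf (wd w28) = 28 := by
  refine orderOf_eq_of_pow_and_pow_div_prime (by norm_num) ?_ fun p hp hd => ?_
  · have h4 : wd (rep 28 w28) = wd [] := wd_eq _ _ (by decide +kernel)
    rw [wd_rep] at h4
    exact h4
  · have hd' : p ∣ 2 ^ 2 * 7 := hd
    rcases (Nat.Prime.dvd_mul hp).1 hd' with h | h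
    · obtain rfl := (Nat.prime_dvd_prime_iff_eq hp Nat.prime_two).1 (hp.dvd_of_dvd_pow h)
      rw [show 28 / 2 = 14 from rfl, ← wd_rep]
      exact wd_ne (by decide +kernel) (by decide +kernel)
    · obtain rfl := (Nat.prime_dvd_prime_iff_eq hp p7).1 h
      rw [show 28 / 7 = 4 from rfl, ← wd_rep]
      exact wd_ne (by decide +kernel) (by decide +kernel)

/-! ### Borel–Tits -/

theorem card_Z2 : Nat.card (ZMod 2) = 2 := by rw [Nat.card_eq_fintype_card, ZMod.card]

/-- Frattini -/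
theorem frattini_dvd {R : Type*} [Group R] [Finite R] {O : Subgroup R} [O.Normal] {p : ℕ} [Fact p.Prime]
    (P : Sylow p O) : Nat.card (R ⧸ O) ∣ Nat.card (normalizer (((P : Subgroup O).map O.subtype : Subgroup R) : Set R)) := by
  set S1 : Subgroup R := (P : Subgroup O).map O.subtype with hS1
  have hsup : normalizer (S1 : Set R) ⊔ O = ⊤ := Sylow.normalizer_sup_eq_top P
  refine Subgroup.card_dvd_of_surjective ((QuotientGroup.mk' O).comp (normalizer (S1 : Set R)).subtype) ?_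
  intro y
  obtain ⟨x, rfl⟩ := QuotientGroup.mk'_surjective O y
  have hx : x ∈ normalizer (S1 : Set R) ⊔ O := by rw [hsup]; exact mem_top x
  rw [Subgroup.mem_sup_of_normal_right] at hx
  obtain ⟨a, ha, b, hb, rfl⟩ := hx
  refine ⟨⟨a, ha⟩, ?_⟩
  have : (QuotientGroup.mk' O) b = 1 := (QuotientGroup.eq_one_iff b).2 hb
  rw [map_mul, this, mul_one]
  rfl

/-- the core has odd order -/
theorem odd_core {r : ℕ} (hr : r = 13 ∨ r = 17) {R : Subgroup LL} {O : Subgroup R} [O.Normal] {N : Subgroup (R ⧸ O)}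
    (h : Top R r O N) : ¬ 2 ∣ Nat.card O := by
  intro h2
  have f2 : Fact (Nat.Prime 2) := ⟨Nat.prime_two⟩
  have hfin : Finite LL := inferInstance
  obtain ⟨P⟩ : Nonempty (Sylow 2 O) := inferInstance
  set S1 : Subgroup R := (P : Subgroup O).map O.subtype with hS1
  have hdvd : Nat.card (R ⧸ O) ∣ Nat.card (normalizer (S1 : Set R)) := frattini_dvd P
  have hr1 : r ∣ Nat.card (R ⧸ O) := h.dvd.trans (Subgroup.card_subgroup_dvd_card N)
  set S : Subgroup LL := S1.map R.subtype with hS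
  have hSp : IsPGroup 2 S := (P.isPGroup'.map _).map _
  have hSne : S ≠ ⊥ := by
    intro h0
    have h1 : S1 = ⊥ := (Subgroup.map_eq_bot_iff_of_injective _ R.subtype_injective).1 h0
    have h3 : (P : Subgroup O) = ⊥ := (Subgroup.map_eq_bot_iff_of_injective _ O.subtype_injective).1 h1
    have h4 := P.dvd_card_of_dvd_card h2
    rw [h3, Subgroup.card_bot] at h4
    omega
  obtain ⟨a, ha⟩ := Cfsg.Agent.SigZero.FFourTwo.card_two_local card_Z2 (H := normalizer (S : Set LL)) ⟨S, hSp, hSne, rfl⟩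
  have h5 : (normalizer (S1 : Set R)).map R.subtype ≤ normalizer (S : Set LL) := by
    rintro _ ⟨x, hx, rfl⟩
    exact Subgroup.le_normalizer_map R.subtype ⟨x, hx, rfl⟩
  have h6 : Nat.card (normalizer (S1 : Set R)) ∣ Nat.card (normalizer (S : Set LL)) := by
    rw [← Subgroup.card_map_of_injective R.subtype_injective]
    exact Subgroup.card_dvd_of_le h5
  have h7 : r ∣ 2 ^ a * 2835 := (hr1.trans hdvd).trans (h6.trans ha)
  rcases (h.prime.dvd_mul).1 h7 with h8 | h8
  · have h9 := (Nat.prime_dvd_prime_iff_eq h.prime Nat.prime_two).1 (h.prime.dvd_of_dvd_pow h8)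
    omega
  · rcases hr with rfl | rfl
    · exact absurd h8 (by norm_num)
    · exact absurd h8 (by norm_num)

theorem not_dvd_quot {R : Subgroup LL} {O : Subgroup R} [O.Normal] {s : ℕ} (h : ¬ s ∣ Nat.card R) :
    ¬ s ∣ Nat.card (R ⧸ O) := fun h1 => h (h1.trans (by rw [← card_quot_mul O]; exact dvd_mul_right _ _))

theorem odd_coprime {a : ℕ} (h : ¬ 2 ∣ a) : a.Coprime 16 := by
  have h1 : a.Coprime 2 := ((Nat.Prime.coprime_iff_not_dvd Nat.prime_two).2 h).symm
  exact Nat.Coprime.pow_right 4 h1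

/-- order divisible by `17 · 7`: no elements of order 16 -/
theorem no16_of17 (tab : OrderTable.{0}) (known : Known.{0}) {R : Subgroup LL} (hR : R ≠ ⊤) (h17 : 17 ∣ Nat.card R)
    (h7 : 7 ∣ Nat.card R) (z : R) : orderOf z ≠ 16 := by
  intro hz
  have hno := no_ord p17 p7 (by norm_num) cyc17
  have h13 := not_both tab known hR h17
  obtain ⟨O, hO, N, ht, -, g, hg, hr, hc⟩ := exists_surv_of_dvd tab known (T := LL) (r := 17) (s := 7) card_LL
    valid_lF p17 p7 hno (by decide +kernel) (by norm_num) hR h17 h7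
  have hsim := ht.simple
  have hnor := ht.normal
  have h7N : 7 ∣ Nat.card N := by
    have h1 := surv17
    rw [List.all_eq_true] at h1
    have h2 := h1 g hg
    simp only [Bool.or_eq_true, beq_iff_eq] at h2
    rw [hc]
    rcases h2 with ((rfl | rfl) | rfl) | rfl <;> decide +kernel
  have hna := Sit.not_comm_of_dvd ht p7 (by norm_num) h7N
  have h1 := orderOf_mk_of_coprime (odd_coprime (odd_core (Or.inr rfl) ht)) hz
  refine main17 hna (cent_eq_bot ht hna) hg hr hc (not_dvd_quot h13) ?_ _ h1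
  refine Cfsg.Agent.H257.El.Top.noQuot O fun z => ?_
  rw [← Subgroup.orderOf_coe]
  exact no_ord p17 (by norm_num) (by norm_num) cyc17 _

/-- order divisible by `13 · 5 · 7` -/
theorem no_of13 (tab : OrderTable.{0}) (known : Known.{0}) {R : Subgroup LL} (hR : R ≠ ⊤) (h13 : 13 ∣ Nat.card R)
    (h5 : 5 ∣ Nat.card R) (h7 : 7 ∣ Nat.card R) : (∀ z : R, orderOf z ≠ 16) ∨ ∀ z : R, orderOf z ≠ 28 := by
  have hno5 := no_ord p13 (p := 5) (by norm_num) (by norm_num) cyc13
  have hno7 := no_ord p13 p7 (by norm_num) cyc13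
  have h17 : ¬ 17 ∣ Nat.card R := fun h => not_both tab known hR h h13
  have hRn : Nat.card R ∣ 3311126603366400 := by
    rw [← card_LL]
    exact Subgroup.card_subgroup_dvd_card R
  obtain ⟨O, hO, N, ht, -, g, hg, hr, hc⟩ := exists_surv_of_dvd tab known (T := LL) (r := 13) (s := 5) card_LL
    valid_lF p13 (by norm_num) hno5 (by decide +kernel) (by norm_num) hR h13 h5
  have hsim := ht.simple
  have hnor := ht.normal
  have hnoR : ∀ z : R, orderOf z ≠ 13 * 7 := fun z => by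
    rw [← Subgroup.orderOf_coe]
    exact hno7 z
  have hord : ∀ b, 1 ≤ b → 7 ^ b ∣ Nat.card R → 7 ^ b % 13 ≠ 1 := fun _ hb hd =>
    okPow_spec valid_lF (by decide +kernel) p7 hb (hd.trans hRn)
  have h7N : 7 ∣ Nat.card N := ht.dvd_simple p7 (by norm_num) hnoR hord (by norm_num) h7
  have h7O := ht.not_dvd_core p7 (by norm_num) hnoR hord
  have h2O := odd_core (Or.inl rfl) ht
  have hna := Sit.not_comm_of_dvd ht p7 (by norm_num) h7N
  have h28 : (Nat.card O).Coprime 28 := by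
    have e : 28 = 2 ^ 2 * 7 := by norm_num
    rw [e]
    exact Nat.Coprime.mul_right (Nat.Coprime.pow_right 2 ((Nat.Prime.coprime_iff_not_dvd Nat.prime_two).2 h2O).symm)
      ((Nat.Prime.coprime_iff_not_dvd p7).2 h7O).symm
  rcases main13 hna (cent_eq_bot ht hna) hg h7N hr hc (not_dvd_quot h17)
    (Cfsg.Agent.H257.El.Top.noQuot O hnoR) with h | h
  · exact Or.inl fun z hz => h _ (orderOf_mk_of_coprime (odd_coprime h2O) hz)
  · exact Or.inr fun z hz => h _ (orderOf_mk_of_coprime h28 hz)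

/-! ### odd index -/

section Odd

open CoxeterSystem Cfsg.Agent.ChevalleyStructure.CoxeterGeom Cfsg.Agent.Tits.Roots Cfsg.Agent.Tits.Core
  Cfsg.Agent.Tits.RootComb Cfsg.Agent.Nodes.Comb Cfsg.Agent.Nodes.Reps Cfsg.Agent.Nodes.BNOf
  Cfsg.Agent.Nodes.StabComb Cfsg.Agent.Nodes.Bruhat Cfsg.Agent.Nodes.LeviDec
open Cfsg.Agent.ChevalleyStructure Cfsg.Agent.ChevalleyStructure.RootVec
  Cfsg.Agent.ChevalleyStructure.NPerm Cfsg.Agent.ChevalleyStructure.CoxeterGeomTypes
open Cfsg.Agent.Nodes Cfsg.Agent.Nodes.RGDChev Cfsg.Agent.SigZero.FFourTwo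

/-- lists of reduced words of rank 2 -/
def L2 (a b : Fin 4) : List (List (Fin 4)) := [[], [a], [b], [b, a], [a, b], [a, b, a]]
def L2' (a b : Fin 4) : List (List (Fin 4)) := [[], [a], [b], [b, a]]
def L12 : List (List (Fin 4)) := [[], [1], [2], [2, 1], [1, 2], [1, 2, 1], [2, 1, 2], [2, 1, 2, 1]]

theorem cover2 : ∀ a b : Fin 4, a ≠ b → ∃ J ∈ ([[0, 1], [0, 2], [0, 3], [1, 2], [1, 3], [2, 3]] : List (List (Fin 4))),
    ∀ j, j ≠ a → j ≠ b → j ∈ J := by decide

theorem card2 {J : List (Fin 4)} (hJ : J ∈ ([[0, 1], [0, 2], [0, 3], [1, 2], [1, 3], [2, 3]] : List (List (Fin 4)))) :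
    ∃ a : ℕ, Nat.card ↥(Par (ZMod 2) {i | i ∈ J}) ∣ 2 ^ a * 63 ∨ Nat.card ↥(Par (ZMod 2) {i | i ∈ J}) ∣ 2 ^ a * 45 := by
  simp only [List.mem_cons, List.not_mem_nil, or_false] at hJ
  have key : ∀ (J : List (Fin 4)) {L : List (List (Fin 4))} {s : ℕ}, chk J L = true →
      (L.map fun ω => 2 ^ inv ω).sum = s → ∃ a : ℕ, Nat.card ↥(Par (ZMod 2) {i | i ∈ J}) = 2 ^ a * s := by
    intro J L s h1 h2
    obtain ⟨a, ha⟩ := card_PJ_eq (K := ZMod 2) card_Z2 CoxeterMatrix.F₄.toCoxeterSystem h1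
    exact ⟨a, by rw [ha, h2]⟩
  rcases hJ with rfl | rfl | rfl | rfl | rfl | rfl
  · obtain ⟨a, ha⟩ := key [0, 1] (L := L2 0 1) (s := 21) (by decide +kernel) (by decide +kernel)
    exact ⟨a, Or.inl (ha ▸ Nat.mul_dvd_mul_left _ (by norm_num))⟩
  · obtain ⟨a, ha⟩ := key [0, 2] (L := L2' 0 2) (s := 9) (by decide +kernel) (by decide +kernel)
    exact ⟨a, Or.inl (ha ▸ Nat.mul_dvd_mul_left _ (by norm_num))⟩
  · obtain ⟨a, ha⟩ := key [0, 3] (L := L2' 0 3) (s := 9) (by decide +kernel) (by decide +kernel)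
    exact ⟨a, Or.inl (ha ▸ Nat.mul_dvd_mul_left _ (by norm_num))⟩
  · obtain ⟨a, ha⟩ := key [1, 2] (L := L12) (s := 45) (by decide +kernel) (by decide +kernel)
    exact ⟨a, Or.inr (ha ▸ dvd_rfl)⟩
  · obtain ⟨a, ha⟩ := key [1, 3] (L := L2' 1 3) (s := 9) (by decide +kernel) (by decide +kernel)
    exact ⟨a, Or.inl (ha ▸ Nat.mul_dvd_mul_left _ (by norm_num))⟩
  · obtain ⟨a, ha⟩ := key [2, 3] (L := L2 2 3) (s := 21) (by decide +kernel) (by decide +kernel)
    exact ⟨a, Or.inl (ha ▸ Nat.mul_dvd_mul_left _ (by norm_num))⟩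

/-- **A subgroup of odd index, not maximal**: its order is prime to 5 or to 7. -/
theorem odd_index {R : Subgroup LL} (hR : R ≠ ⊤) (hRc : ¬ IsCoatom R) (h2 : ¬ 2 ∣ R.index) :
    ¬ 5 ∣ Nat.card R ∨ ¬ 7 ∣ Nat.card R := by
  obtain ⟨N, hRN, hN⟩ : ∃ N, R < N ∧ N ≠ ⊤ := by
    by_contra hcon
    push Not at hcon
    exact hRc ⟨hR, fun b hb => hcon b hb⟩
  have f2 : Fact (Nat.Prime 2) := ⟨Nat.prime_two⟩
  let cs : CoxeterSystem CoxeterMatrix.F₄ CoxeterMatrix.F₄.Group := CoxeterMatrix.F₄.toCoxeterSystem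
  have hfin := finite_W isType cs
  have R0 := rgd (K := ZMod 2) isType cs 2
  have hT := T_eq_bot (K := ZMod 2) card_Z2
  have hGG := Cfsg.Agent.KFacts.RgdFilt.GG_eq_top (G1_eq_top (K := ZMod 2) isType cs)
    (T := (chevF4.diagonalSubgroup (ZMod 2)).subgroupOf (chevF4.group (ZMod 2)))
  obtain ⟨g, hg⟩ := H248.Ovg.exists_conj_le (R0.isPGroup_Upos) h2
  have hU : RGD.Sup (fun x => (XV chevF4 4 (ZMod 2) x).subgroupOf (chevF4.group (ZMod 2)))
      (RGD.Pos cs isType.isCartan) ≤ cj g⁻¹ R := by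
    rw [← cj_le_cj_iff g, cj_cj_inv]
    exact hg
  let nI : Fin 4 → LL := fun i => ⟨nn isType (ZMod 2) i, nn_mem_group isType i⟩
  have hpar : ∀ P : Subgroup LL, cj g⁻¹ R ≤ P → P = Par (ZMod 2) {i | nI i ∈ P} := by
    intro P hP
    have h3 := inf_eq_PJ R0 (P := P) (by
      unfold RGD.B
      rw [hT, bot_sup_eq]
      exact hU.trans hP)
    rw [hGG, inf_top_eq] at h3
    exact h3
  have hmono : ∀ J J' : Set (Fin 4), J ⊆ J' → Par (ZMod 2) J ≤ Par (ZMod 2) J' := by
    intro J J' hJ y hy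
    obtain ⟨w, hw, hc⟩ := (mem_PJ_iff_cell R0).1 hy
    exact (mem_PJ_iff_cell R0).2 ⟨w, Subgroup.closure_mono (Set.image_mono hJ) hw, hc⟩
  have h12 : cj g⁻¹ R ≤ cj g⁻¹ N := cj_mono _ hRN.le
  have hP1 := hpar _ le_rfl
  have hP2 := hpar _ h12
  have htop := hpar ⊤ le_top
  -- two nodes outside
  obtain ⟨a, ha⟩ : ∃ a, nI a ∉ cj g⁻¹ N := by
    by_contra hcon
    push Not at hcon
    apply hN
    have e1 : {i | nI i ∈ cj g⁻¹ N} = {i | nI i ∈ (⊤ : Subgroup LL)} := by
      ext i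
      exact ⟨fun _ => Subgroup.mem_top (nI i), fun _ => hcon i⟩
    have e2 : cj g⁻¹ N = ⊤ := by rw [hP2, e1, ← htop]
    have e3 := cj_cj_inv g N
    rw [e2] at e3
    rw [← e3]
    exact eq_top_iff.2 fun x _ => mem_cj.2 (mem_top _)
  obtain ⟨b, hb, hb'⟩ : ∃ b, nI b ∈ cj g⁻¹ N ∧ nI b ∉ cj g⁻¹ R := by
    by_contra hcon
    push Not at hcon
    apply hRN.ne
    have e1 : {i | nI i ∈ cj g⁻¹ N} = {i | nI i ∈ cj g⁻¹ R} := by
      ext i
      exact ⟨fun h => hcon i h, fun h => h12 h⟩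
    have e2 : cj g⁻¹ N = cj g⁻¹ R := by rw [hP2, e1, ← hP1]
    rw [← cj_cj_inv g R, ← e2, cj_cj_inv]
  have hab : a ≠ b := by rintro rfl; exact ha hb
  obtain ⟨J, hJ, hJ'⟩ := cover2 a b hab
  have hle : cj g⁻¹ R ≤ Par (ZMod 2) {i | i ∈ J} := by
    rw [hP1]
    refine hmono _ _ fun i hi => hJ' i ?_ ?_
    · rintro rfl; exact ha (h12 hi)
    · rintro rfl; exact hb' hi
  have hdv : Nat.card R ∣ Nat.card ↥(Par (ZMod 2) {i | i ∈ J}) := by
    have h3 := Subgroup.card_dvd_of_le hle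
    rwa [Cfsg.Agent.Nodes.CardSup.card_cj] at h3
  obtain ⟨c, hc | hc⟩ := card2 hJ
  · left
    intro h5
    have h6 := (h5.trans hdv).trans hc
    rcases (Nat.Prime.dvd_mul (by norm_num)).1 h6 with h7 | h7
    · exact absurd ((Nat.prime_dvd_prime_iff_eq (by norm_num) Nat.prime_two).1
        (Nat.Prime.dvd_of_dvd_pow (by norm_num) h7)) (by norm_num)
    · exact absurd h7 (by norm_num)
  · right
    intro h5
    have h6 := (h5.trans hdv).trans hc
    rcases (Nat.Prime.dvd_mul (by norm_num)).1 h6 with h7 | h7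
    · exact absurd ((Nat.prime_dvd_prime_iff_eq (by norm_num) Nat.prime_two).1
        (Nat.Prime.dvd_of_dvd_pow (by norm_num) h7)) (by norm_num)
    · exact absurd h7 (by norm_num)

end Odd

/-! ### the row -/

/-- two `T`-classes of elements of order `v` -/
theorem exists_norm {T : Type*} [Group T] [Finite T] {v : ℕ} {x : T}
    (hx : orderOf x = v) {c n : ℕ} (hv : v.Prime) (hC : Nat.card (centralizer ({x} : Set T)) = c)
    (hN : Nat.card (normalizer (zpowers x : Set T)) ≤ n * c) (h : n < v - 1) :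
    ∃ y : T, orderOf y = v ∧ ∀ g : T, g * x * g⁻¹ ≠ y := by
  classical
  have h2 := card_conjPow_mul x
  rw [hC] at h2
  have hc : 0 < c := by rw [← hC]; exact Nat.card_pos
  have h3 : Nat.card (conjPow x) ≤ n := by
    by_contra hlt
    push Not at hlt
    have : n * c < Nat.card (conjPow x) * c := Nat.mul_lt_mul_of_pos_right hlt hc
    omega
  obtain ⟨y, hy, hy1, hyc⟩ : ∃ y ∈ zpowers x, y ≠ 1 ∧ y ∉ conjPow x := by
    by_contra hcon
    push Not at hcon
    have := Fintype.ofFinite T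
    let P : Finset T := (Finset.univ.filter fun y => y ∈ zpowers x).erase 1
    have hP : P.card = v - 1 := by
      rw [Finset.card_erase_of_mem (by simp), ← hx, ← Nat.card_zpowers, Nat.card_eq_fintype_card,
        Fintype.card_subtype]
    have hsub : (P : Set T) ⊆ conjPow x := by
      intro y hy
      rw [Finset.mem_coe, Finset.mem_erase, Finset.mem_filter] at hy
      exact hcon y hy.2.2 hy.1
    have h4 : (P : Set T).ncard ≤ (conjPow x).ncard := Set.ncard_le_ncard hsub (Set.toFinite _)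
    rw [Set.ncard_coe_finset, hP, ← Nat.card_coe_set_eq] at h4
    omega
  refine ⟨y, ?_, fun g hg => hyc ⟨hy, g, hg⟩⟩
  have h1 : orderOf y ∣ v := by
    rw [← hx]
    exact orderOf_dvd_of_mem_zpowers hy
  rcases (Nat.dvd_prime hv).1 h1 with h2 | h2
  · exact absurd (orderOf_eq_one_iff.1 h2) hy1
  · exact h2

theorem two_of_orders' {T : Type*} [Group T] {R : Subgroup T} {x y : T} {a b : ℕ} (hx : orderOf x = a)
    (hy : orderOf y = b) (hab : a ≠ b) (ha : ∀ z : R, orderOf z ≠ a) (hb : ∀ z : R, orderOf z ≠ b) : Two T R := by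
  refine ⟨x, y, fun φ hφ => ha ⟨_, hφ⟩ ?_, fun φ hφ => hb ⟨_, hφ⟩ ?_, fun φ hφ => hab ?_⟩
  · rw [Subgroup.orderOf_mk, orderOf_mulEquiv, hx]
  · rw [Subgroup.orderOf_mk, orderOf_mulEquiv, hy]
  · rw [← hx, ← hy, ← hφ, orderOf_mulEquiv]

theorem no_of_not_dvd {T : Type*} [Group T] {R : Subgroup T} {v : ℕ} (h : ¬ v ∣ Nat.card R) (z : R) :
    orderOf z ≠ v := fun hz => h (hz ▸ orderOf_dvd_natCard z)

/-- an element of order `a`, a missing order, and two `T`-classes of missing elements of order `b` -/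
theorem threeT_of {T : Type*} [Group T] {R : Subgroup T} {x y z : T} {a b : ℕ} (hx : orderOf x = a)
    (hy : orderOf y = a) (hz : orderOf z = b) (hab : a ≠ b) (hxy : ∀ g : T, g * x * g⁻¹ ≠ y)
    (ha : ∀ z : R, orderOf z ≠ a) (hb : ∀ z : R, orderOf z ≠ b) : ThreeT T R := by
  have key : ∀ {u : T} {c : ℕ}, orderOf u = c → (∀ z : R, orderOf z ≠ c) → ∀ g : T, g * u * g⁻¹ ∉ R := by
    intro u c hu hc g hg
    refine hc ⟨_, hg⟩ ?_
    rw [Subgroup.orderOf_mk, orderOf_conj, hu]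
  refine ⟨x, y, z, key hx ha, key hy ha, key hz hb, hxy, fun g hg => hab ?_, fun g hg => hab ?_⟩
  · rw [← hx, ← hz, ← hg, orderOf_conj]
  · rw [← hy, ← hz, ← hg, orderOf_conj]

/-- two missing orders and a missing class of elements of another order -/
theorem threeT_of' {T : Type*} [Group T] {R : Subgroup T} {x y z : T} {a b c : ℕ} (hx : orderOf x = a)
    (hy : orderOf y = b) (hz : orderOf z = c) (hab : a ≠ b) (hac : a ≠ c) (hbc : b ≠ c)
    (ha : ∀ z : R, orderOf z ≠ a) (hb : ∀ z : R, orderOf z ≠ b) (hc : ∀ g : T, g * z * g⁻¹ ∉ R) : ThreeT T R := by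
  have key : ∀ {u : T} {c : ℕ}, orderOf u = c → (∀ z : R, orderOf z ≠ c) → ∀ g : T, g * u * g⁻¹ ∉ R := by
    intro u c hu hc g hg
    refine hc ⟨_, hg⟩ ?_
    rw [Subgroup.orderOf_mk, orderOf_conj, hu]
  refine ⟨x, y, z, key hx ha, key hy hb, hc, fun g hg => hab ?_, fun g hg => hac ?_, fun g hg => hbc ?_⟩
  · rw [← hx, ← hy, ← hg, orderOf_conj]
  · rw [← hx, ← hz, ← hg, orderOf_conj]
  · rw [← hy, ← hz, ← hg, orderOf_conj]

/-- two `T`-classes of elements of order 7 -/
theorem not_conj7' (g : LL) : g * wd v7 * g⁻¹ ≠ wd w7 := fun h => not_conj7 g (by rw [h]; exact mem_zpowers _)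

/-- **the classes missing in a proper subgroup** -/
theorem miss_F42 (tab : OrderTable.{0}) (known : Known.{0}) {R : Subgroup LL} (hR : R ≠ ⊤) :
    Two LL R ∧ ThreeT LL R := by
  have hLc := card_LL
  have hT : Finite LL := inferInstance
  have f17 := Fact.mk p17
  have f13 := Fact.mk p13
  have f7 := Fact.mk p7
  have p5 : Nat.Prime 5 := by norm_num
  have f5 := Fact.mk p5
  obtain ⟨x, hx, hC, hN⟩ := card_norm p17 cyc17 (K := 194772153139200) (n := 8) (by rw [hLc])
    (by decide) (by norm_num) (by norm_num)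
  obtain ⟨y, hy, hxy⟩ := exists_norm hx p17 hC (n := 8) (by rw [hN, mul_comm]) (by norm_num)
  obtain ⟨u, hu⟩ := exists_prime_orderOf_dvd_card' (G := LL) 13 (by rw [hLc]; norm_num)
  obtain ⟨w, hw⟩ := exists_prime_orderOf_dvd_card' (G := LL) 5 (by rw [hLc]; norm_num)
  by_cases h17 : 17 ∣ Nat.card R
  · have h13 := no_of_not_dvd (not_both tab known hR h17)
    by_cases h7 : 7 ∣ Nat.card R
    · have h16 := no16_of17 tab known hR h17 h7
      obtain ⟨t, ht, htR⟩ := exists_missing7 (not_dvd_49 tab known hR h17 h7)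
      exact ⟨two_of_orders' hu order_w16 (by norm_num) h13 h16,
        threeT_of' hu order_w16 ht (by norm_num) (by norm_num) (by norm_num) h13 h16 htR⟩
    · have h7' := no_of_not_dvd h7
      exact ⟨two_of_orders' hu order_w7 (by norm_num) h13 h7',
        threeT_of order_v7 order_w7 hu (by norm_num) not_conj7' h7' h13⟩
  · have h17' := no_of_not_dvd h17
    have fin : ∀ {b : ℕ} {z : LL}, orderOf z = b → 17 ≠ b → (∀ z : R, orderOf z ≠ b) → Two LL R ∧ ThreeT LL R :=
      fun hz hb hR => ⟨two_of_orders' hx hz hb h17' hR, threeT_of hx hy hz hb hxy h17' hR⟩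
    by_cases h13 : 13 ∣ Nat.card R
    · by_cases h5 : 5 ∣ Nat.card R
      · by_cases h7 : 7 ∣ Nat.card R
        · rcases no_of13 tab known hR h13 h5 h7 with h | h
          · exact fin order_w16 (by norm_num) h
          · exact fin order_w28 (by norm_num) h
        · exact fin order_w7 (by norm_num) (no_of_not_dvd h7)
      · exact fin hw (by norm_num) (no_of_not_dvd h5)
    · exact fin hu (by norm_num) (no_of_not_dvd h13)

/-- **the weak row `F₄(2)`** -/
theorem rowW_F42 (tab : OrderTable.{0}) (known : Known.{0}) : RowW LL := by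
  have hLc := card_LL
  have hT : Finite LL := inferInstance
  refine ⟨Or.inl fun M hM => (miss_F42 tab known hM.1).1, fun R hR hRc => ?_⟩
  by_cases h2 : 2 ∣ R.index
  · right
    refine ⟨(miss_F42 tab known hR).2, (miss_F42 tab known hR).1, Or.inl ?_⟩
    intro s hs hd h1
    rw [Cfsg.Agent.S2122.result (F := ZMod 2) 2 1 (by rw [ZMod.card]; norm_num)] at hd
    have h3 : s = 2 := (Nat.prime_dvd_prime_iff_eq hs Nat.prime_two).1 (by simpa using hd)
    subst h3
    have h4 : R.index % 2 = 1 % 2 := h1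
    omega
  · left
    have f2 : Fact (Nat.Prime 2) := ⟨Nat.prime_two⟩
    have h17 : ¬ 17 ∣ Nat.card R := not_dvd_F4 (F := ZMod 2) (p := 2) (Or.inl rfl) prim8 hR h2
    have h13 : ¬ 13 ∣ Nat.card R := not_dvd_F4 (F := ZMod 2) (p := 2) (Or.inr rfl) prim12 hR h2
    rcases odd_index hR hRc h2 with h | h
    · exact Three.of_three_primes (u := 17) (v := 13) (w := 5) (by norm_num) (by norm_num) (by norm_num)
        (by norm_num) (by norm_num) (by norm_num) (by rw [hLc]; norm_num) (by rw [hLc]; norm_num)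
        (by rw [hLc]; norm_num) h17 h13 h
    · exact Three.of_three_primes (u := 17) (v := 13) (w := 7) (by norm_num) (by norm_num) (by norm_num)
        (by norm_num) (by norm_num) (by norm_num) (by rw [hLc]; norm_num) (by rw [hLc]; norm_num)
        (by rw [hLc]; norm_num) h17 h13 h

end Cfsg.Agent.H622.Der
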