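import Cfsg.Agent.H622.Der.NscF4
import Cfsg.Agent.H378.TwRowsF
import Cfsg.Agent.S2128
import Cfsg.Agent.S1068

/-!
# `²F₄(q)`, `q ≥ 8`: all `v`-singular elements are conjugate only for `q = 8`, `v = 37` (helper622)
-/

set_option autoImplicit false

namespace Cfsg.Agent.H622.Der

open Subgroup Cfsg Cfsg.Lie Cfsg.Agent.H439.Der Cfsg.Agent.H938.Sax Cfsg.Agent.H946.Num
open Cfsg.Agent.H129.CycCard (CycCard card_tF4_plus card_tF4_minus)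
open Cfsg.Agent.H378.ExcAdj (od)
open Cfsg.Agent.H378.TwRowsF (near_2F4)

universe u

section Num

/-- `q² + √(2q³) + q + √(2q) + 1`, `x = 2 ^ m` -/
def Np (x : ℕ) : ℕ := 4 * x ^ 4 + 4 * x ^ 3 + 2 * x ^ 2 + 2 * x + 1

/-- `q² - √(2q³) + q - √(2q) + 1`, `x = 2 ^ m` -/
def Nm (x : ℕ) : ℕ := 4 * x ^ 4 + 2 * x ^ 2 + 1 - (4 * x ^ 3 + 2 * x)

theorem Nm_le {x : ℕ} (hx : 1 ≤ x) : 4 * x ^ 3 + 2 * x ≤ 4 * x ^ 4 + 2 * x ^ 2 + 1 := by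
  have h1 : x ^ 3 ≤ x ^ 4 := Nat.pow_le_pow_right hx (by norm_num)
  have h2 : x ^ 1 ≤ x ^ 2 := Nat.pow_le_pow_right hx (by norm_num)
  rw [pow_one] at h2
  omega

theorem cast_Np (x : ℕ) : ((Np x : ℕ) : ℤ) = 1 + 2 * (x : ℤ) + 2 * (x : ℤ) ^ 2 + 4 * (x : ℤ) ^ 3 + 4 * (x : ℤ) ^ 4 := by
  unfold Np; push_cast; ring

theorem cast_Nm {x : ℕ} (hx : 1 ≤ x) :
    ((Nm x : ℕ) : ℤ) = 1 - 2 * (x : ℤ) + 2 * (x : ℤ) ^ 2 - 4 * (x : ℤ) ^ 3 + 4 * (x : ℤ) ^ 4 := by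
  unfold Nm; rw [Nat.cast_sub (Nm_le hx)]; push_cast; ring

theorem Np_mul_Nm {x : ℕ} (hx : 1 ≤ x) : Np x * Nm x = N12 (2 * x ^ 2) := by
  zify
  rw [cast_N12, cast_Np, cast_Nm hx]
  push_cast
  ring

theorem tf4_card_aux {x : ℕ} (hx : 1 ≤ x) :
    (2 * x ^ 2) ^ 12 * (2 * x ^ 2 - 1) * ((2 * x ^ 2) ^ 3 + 1) * ((2 * x ^ 2) ^ 4 - 1) * ((2 * x ^ 2) ^ 6 + 1) =
    Np x * Nm x * ((2 * x ^ 2) ^ 12 * (2 * x ^ 2 - 1) * ((2 * x ^ 2) ^ 3 + 1) * ((2 * x ^ 2) ^ 4 - 1) *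
      ((2 * x ^ 2) ^ 2 + 1)) := by
  rw [Np_mul_Nm hx]
  have hq : 1 ≤ 2 * x ^ 2 := by have := Nat.one_le_pow 2 x hx; omega
  generalize 2 * x ^ 2 = q at hq
  have h : (q ^ 2 + 1) * N12 q = q ^ 6 + 1 := by
    zify
    rw [cast_N12]
    ring
  rw [← h]; ring

/-- the modular computation -/
theorem tf4_mod_aux {R : Type*} [CommRing R] {x N N' : R} (hN : N = 0) (hs : N + N' = 2 * (1 + 2 * x ^ 2 + (2 * x ^ 2) ^ 2))
    (hp : (2 * x ^ 2) ^ 4 - (2 * x ^ 2) ^ 2 + 1 = N * N') :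
    N' * ((2 * x ^ 2) ^ 12 * (2 * x ^ 2 - 1) * ((2 * x ^ 2) ^ 3 + 1) * ((2 * x ^ 2) ^ 4 - 1) *
      ((2 * x ^ 2) ^ 2 + 1)) = 12 := by
  rw [hN, zero_mul] at hp
  rw [hN, zero_add] at hs
  rw [hs]
  generalize 2 * x ^ 2 = q at hp
  have h6 : q ^ 6 = -1 := by linear_combination (q ^ 2 + 1) * hp
  have h12 : q ^ 12 = 1 := by
    have : q ^ 12 = (q ^ 6) ^ 2 := by ring
    rw [this, h6]; ring
  rw [h12]
  linear_combination (2 * q ^ 8 + 4 * q ^ 6 - 8 * q ^ 2 - 10) * hp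

theorem tf4_mod_p {x t : ℕ} (hx : 1 ≤ x) (h : t ∣ Np x) :
    Nm x * ((2 * x ^ 2) ^ 12 * (2 * x ^ 2 - 1) * ((2 * x ^ 2) ^ 3 + 1) * ((2 * x ^ 2) ^ 4 - 1) *
      ((2 * x ^ 2) ^ 2 + 1)) ≡ 12 [MOD t] := by
  rw [← ZMod.natCast_eq_natCast_iff]
  have h1 : ((Np x : ℕ) : ZMod t) = 0 := (ZMod.natCast_eq_zero_iff _ _).2 h
  have hq : 1 ≤ 2 * x ^ 2 := by have := Nat.one_le_pow 2 x hx; omega
  have key := tf4_mod_aux (R := ZMod t) (x := (x : ZMod t)) (N := ((Np x : ℕ) : ZMod t))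
    (N' := ((Nm x : ℕ) : ZMod t)) h1 (by
      have e : ((Nm x : ℕ) : ZMod t) = (((Nm x : ℕ) : ℤ) : ZMod t) := by push_cast; rfl
      rw [e, cast_Nm hx]
      unfold Np
      push_cast
      ring) (by
      have e : ((Nm x : ℕ) : ZMod t) = (((Nm x : ℕ) : ℤ) : ZMod t) := by push_cast; rfl
      rw [e, cast_Nm hx]
      unfold Np
      push_cast
      ring)
  push_cast [hq, Nat.one_le_pow 4 _ hq]
  exact key

theorem tf4_mod_m {x t : ℕ} (hx : 1 ≤ x) (h : t ∣ Nm x) :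
    Np x * ((2 * x ^ 2) ^ 12 * (2 * x ^ 2 - 1) * ((2 * x ^ 2) ^ 3 + 1) * ((2 * x ^ 2) ^ 4 - 1) *
      ((2 * x ^ 2) ^ 2 + 1)) ≡ 12 [MOD t] := by
  rw [← ZMod.natCast_eq_natCast_iff]
  have h1 : ((Nm x : ℕ) : ZMod t) = 0 := (ZMod.natCast_eq_zero_iff _ _).2 h
  have hq : 1 ≤ 2 * x ^ 2 := by have := Nat.one_le_pow 2 x hx; omega
  have key := tf4_mod_aux (R := ZMod t) (x := (x : ZMod t)) (N := ((Nm x : ℕ) : ZMod t))
    (N' := ((Np x : ℕ) : ZMod t)) h1 (by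
      have e : ((Nm x : ℕ) : ZMod t) = (((Nm x : ℕ) : ℤ) : ZMod t) := by push_cast; rfl
      rw [e, cast_Nm hx]
      unfold Np
      push_cast
      ring) (by
      have e : ((Nm x : ℕ) : ZMod t) = (((Nm x : ℕ) : ℤ) : ZMod t) := by push_cast; rfl
      rw [e, cast_Nm hx]
      unfold Np
      push_cast
      ring)
  push_cast [hq, Nat.one_le_pow 4 _ hq]
  exact key

/-- `N₋ - 1 > 12 (2 m + 1)` for `m ≥ 2` -/
theorem Nm_gt {m : ℕ} (hm : 2 ≤ m) : (2 * m + 1) * 12 < Nm (2 ^ m) - 1 := by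
  have h1 : m < 2 ^ m := Nat.lt_two_pow_self
  have h4 : 4 ≤ 2 ^ m := by
    calc 4 = 2 ^ 2 := by norm_num
      _ ≤ 2 ^ m := Nat.pow_le_pow_right (by norm_num) hm
  generalize 2 ^ m = x at *
  obtain ⟨k, rfl⟩ : ∃ k, x = k + 4 := ⟨x - 4, by omega⟩
  have e : Nm (k + 4) = 4 * k ^ 4 + 60 * k ^ 3 + 338 * k ^ 2 + 846 * k + 793 := by
    have h := cast_Nm (x := k + 4) (by omega)
    zify
    rw [h]
    push_cast
    ring
  rw [e]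
  have : 0 ≤ k ^ 4 := Nat.zero_le _
  have : 0 ≤ k ^ 3 := Nat.zero_le _
  have : 0 ≤ k ^ 2 := Nat.zero_le _
  omega

theorem Nm_lt_Np {x : ℕ} (hx : 1 ≤ x) : Nm x ≤ Np x := by
  unfold Nm Np
  omega

end Num

section TF4

variable {K : Type u} [Field K] [Fintype K] {m : ℕ}

theorem q_eq (m : ℕ) : 2 ^ (2 * m + 1) = 2 * (2 ^ m) ^ 2 := by ring

theorem card_TF4 (hK : Fintype.card K = 2 ^ (2 * m + 1)) : Nat.card ↥(twistedF4 K (2 ^ m)) =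
    Np (2 ^ m) * Nm (2 ^ m) * ((2 * (2 ^ m) ^ 2) ^ 12 * (2 * (2 ^ m) ^ 2 - 1) * ((2 * (2 ^ m) ^ 2) ^ 3 + 1) *
      ((2 * (2 ^ m) ^ 2) ^ 4 - 1) * ((2 * (2 ^ m) ^ 2) ^ 2 + 1)) := by
  rw [Cfsg.Agent.S1068.result hK, q_eq, tf4_card_aux Nat.one_le_two_pow]

theorem cyc_p (hK : Fintype.card K = 2 ^ (2 * m + 1)) {v : ℕ} (hv : v.Prime) (h : v ∣ Np (2 ^ m)) :
    CycCard ↥(twistedF4 K (2 ^ m)) v (Np (2 ^ m)) 1 := by
  have hc := cast_Np (2 ^ m)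
  push_cast at hc
  refine card_tF4_plus hK hc hv ?_
  rw [← hc]
  exact Int.natCast_dvd_natCast.2 h

theorem cyc_m (hK : Fintype.card K = 2 ^ (2 * m + 1)) {v : ℕ} (hv : v.Prime) (h : v ∣ Nm (2 ^ m)) :
    CycCard ↥(twistedF4 K (2 ^ m)) v (Nm (2 ^ m)) 1 := by
  have hc := cast_Nm (x := 2 ^ m) Nat.one_le_two_pow
  push_cast at hc
  refine card_tF4_minus hK hc hv ?_
  rw [← hc]
  exact Int.natCast_dvd_natCast.2 h

theorem three_dvd_TF4 (hK : Fintype.card K = 2 ^ (2 * m + 1)) : 3 ∣ Nat.card ↥(twistedF4 K (2 ^ m)) := by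
  rw [Cfsg.Agent.S1068.result hK]
  have h : 3 ∣ (2 ^ (2 * m + 1)) ^ 3 + 1 := by
    have h1 : (2 ^ (2 * m + 1)) % 3 = 2 := by
      rw [pow_succ, pow_mul, Nat.mul_mod, Nat.pow_mod]
      norm_num
    have h2 : (2 ^ (2 * m + 1)) ^ 3 % 3 = 2 := by rw [Nat.pow_mod, h1]
    omega
  exact ((h.mul_left _).mul_right _).mul_right _

theorem od_three' (q : ℕ) : od q 3 ≠ 12 := (od_three q).2

/-- **`²F₄(q)`, `q ≥ 8`: all `v`-singular elements are conjugate only for `q = 8`, `v = 37`.** -/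
theorem nsc_TF4 (hm : 1 ≤ m) (hK : Fintype.card K = 2 ^ (2 * m + 1)) {v : ℕ} (hv : v.Prime)
    (hd : v ∣ Nat.card ↥(twistedF4 K (2 ^ m))) (hSC : SC ↥(twistedF4 K (2 ^ m)) v) : m = 1 ∧ v = 37 := by
  have hT : Finite ↥(twistedF4 K (2 ^ m)) := inferInstance
  have hx : 1 ≤ 2 ^ m := Nat.one_le_two_pow
  have hout := Cfsg.Agent.S2128.result hm hK
  have hnear : ∀ r : ℕ, r ≠ 2 → Cfsg.Agent.H564.NearTwo.Near ↥(twistedF4 K (2 ^ m)) r → ¬ SC ↥(twistedF4 K (2 ^ m)) r := by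
    intro r hr2 h
    rcases h with h | h | ⟨s, h, -⟩
    · exact absurd h hr2
    · exact not_SC_of_adj h
    · exact not_SC_of_adj h
  by_cases hv2 : v = 2
  · exfalso
    subst hv2
    rcases near_2F4 hm hK Nat.prime_three (three_dvd_TF4 hK) with h | h
    · rcases h with h | h | ⟨s, -, h⟩
      · exact absurd h (by norm_num)
      · exact not_SC_of_adj' h hSC
      · exact not_SC_of_adj' h hSC
    · exact absurd h (od_three _).2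
  rcases near_2F4 hm hK hv hd with h | h
  · exact absurd hSC (hnear v hv2 h)
  -- `v` divides `N₊` or `N₋`
  have h12 : v ∣ N12 (2 * (2 ^ m) ^ 2) := by
    have h1 := Cfsg.Agent.H378.CycTab.dvd12 hv h
    rw [Cfsg.Agent.H378.CycTab.pv12, Nat.card_eq_fintype_card, hK, ← cast_N12] at h1
    have h2 := Int.natCast_dvd_natCast.1 h1
    rwa [q_eq] at h2
  rw [← Np_mul_Nm hx] at h12
  rcases hv.dvd_mul.1 h12 with h1 | h1
  · exfalso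
    refine not_SC_of_cyc hv (cyc_p hK hv h1) (K := Nm (2 ^ m) * ((2 * (2 ^ m) ^ 2) ^ 12 * (2 * (2 ^ m) ^ 2 - 1) *
      ((2 * (2 ^ m) ^ 2) ^ 3 + 1) * ((2 * (2 ^ m) ^ 2) ^ 4 - 1) * ((2 * (2 ^ m) ^ 2) ^ 2 + 1)))
      (by rw [card_TF4 hK]; ring) (tf4_mod_p hx h1) (by norm_num) (o := 2 * m + 1) hout.le (fun hN => ?_) hSC
    rw [← hN]
    rcases Nat.lt_or_ge 1 m with h2 | h2
    · exact lt_of_lt_of_le (Nm_gt h2) (Nat.sub_le_sub_right (Nm_lt_Np hx) 1)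
    · have : m = 1 := by omega
      subst this
      decide
  · by_cases hm1 : m = 1
    · refine ⟨hm1, ?_⟩
      subst hm1
      have h2 : Nm (2 ^ 1) = 37 := by decide
      rw [h2] at h1
      exact (Nat.prime_dvd_prime_iff_eq hv (by norm_num)).1 h1
    · exfalso
      refine not_SC_of_cyc hv (cyc_m hK hv h1) (K := Np (2 ^ m) * ((2 * (2 ^ m) ^ 2) ^ 12 * (2 * (2 ^ m) ^ 2 - 1) *
        ((2 * (2 ^ m) ^ 2) ^ 3 + 1) * ((2 * (2 ^ m) ^ 2) ^ 4 - 1) * ((2 * (2 ^ m) ^ 2) ^ 2 + 1)))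
        (by rw [card_TF4 hK]; ring) (tf4_mod_m hx h1) (by norm_num) (o := 2 * m + 1) hout.le (fun hN => ?_) hSC
      rw [← hN]
      exact Nm_gt (by omega)

end TF4

end Cfsg.Agent.H622.Der
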