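import Cfsg.Agent.H622.Der.Uni
import Cfsg.Agent.H622.Der.F42
import Cfsg.Agent.H934.OutB

/-!
# S3502, `F₄(2)`: almost simple groups without elements of order 16 or 28 (helper622)

* `cent_eq_bot` : the centralizer of the simple group at the top
* `main17`, `main13` : the names left for the primes 17 and 13
-/

set_option autoImplicit false
set_option maxRecDepth 100000
set_option linter.unusedSectionVars false

namespace Cfsg.Agent.H622.Der

open Subgroup Cfsg Cfsg.Agent.OrdDiv Cfsg.Agent.H257.El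
open Cfsg.Agent.H129.CycCard (CycCard card_G2_3)

theorem cent_eq_bot {R : Type*} [Group R] [Finite R] {r : ℕ} {O : Subgroup R} [O.Normal] {N : Subgroup (R ⧸ O)}
    (h : Top R r O N) (hna : ¬ ∀ a b : N, a * b = b * a) : centralizer (N : Set (R ⧸ O)) = ⊥ := by
  have hN := h.normal
  have hsim := h.simple
  refine h.bot _ inferInstance fun hd => ?_
  have hinf : N ⊓ centralizer (N : Set (R ⧸ O)) = ⊥ := by
    have h1 : (centralizer (N : Set (R ⧸ O))).subgroupOf N = ⊥ := by
      rcases IsSimpleGroup.eq_bot_or_eq_top_of_normal ((centralizer (N : Set (R ⧸ O))).subgroupOf N)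
        inferInstance with h1 | h1
      · exact h1
      · exfalso
        apply hna
        intro a b
        have h2 : a ∈ (centralizer (N : Set (R ⧸ O))).subgroupOf N := by rw [h1]; exact mem_top a
        rw [mem_subgroupOf, mem_centralizer_iff] at h2
        exact Subtype.ext (h2 b b.2).symm
    rw [subgroupOf_eq_bot] at h1
    rw [inf_comm]
    exact h1.eq_bot
  have h2 : r * r ∣ Nat.card (R ⧸ O) := by
    refine (Nat.mul_dvd_mul h.dvd hd).trans ?_
    have hcomm : ∀ (a : N) (b : centralizer (N : Set (R ⧸ O))), Commute (N.subtype a) (Subgroup.subtype _ b) :=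
      fun a b => mem_centralizer_iff.1 b.2 a a.2
    have h3 : Function.Injective (MonoidHom.noncommCoprod N.subtype (Subgroup.subtype _) hcomm) := by
      rw [MonoidHom.noncommCoprod_injective]
      refine ⟨N.subtype_injective, Subgroup.subtype_injective _, ?_⟩
      rw [Subgroup.range_subtype, Subgroup.range_subtype, disjoint_iff]
      exact hinf
    rw [← Nat.card_prod]
    exact Subgroup.card_dvd_of_injective _ h3
  exact h.sq' (by rw [pow_two]; exact h2)

/-- orders in a quotient by a subgroup of coprime order -/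
theorem orderOf_mk_of_coprime {R : Type*} [Group R] [Finite R] {O : Subgroup R} [O.Normal] {n : ℕ}
    (hco : (Nat.card O).Coprime n) {z : R} (hz : orderOf z = n) : orderOf (QuotientGroup.mk z : R ⧸ O) = n := by
  refine Nat.dvd_antisymm ?_ ?_
  · rw [← hz]
    exact orderOf_map_dvd (QuotientGroup.mk' O) z
  · rw [← hz]
    refine orderOf_dvd_of_pow_eq_one ?_
    set k := orderOf (QuotientGroup.mk z : R ⧸ O) with hk
    have h1 : z ^ k ∈ O := by
      rw [← QuotientGroup.eq_one_iff, QuotientGroup.mk_pow]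
      exact pow_orderOf_eq_one _
    have h2 : orderOf (z ^ k) ∣ Nat.card O := Subgroup.orderOf_dvd_natCard _ h1
    have h3 : orderOf (z ^ k) ∣ n := by rw [← hz]; exact orderOf_pow_dvd k
    rw [← orderOf_eq_one_iff]
    exact Nat.dvd_one.1 (hco ▸ Nat.dvd_gcd h2 h3)

section Main

variable {Q : Type} [Group Q] [Finite Q] {N : Subgroup Q} [N.Normal] [IsSimpleGroup N]

omit [Finite Q] [IsSimpleGroup N] in
/-- powers in `N` -/
theorem orderOf_ne_of_out (hC : centralizer (N : Set Q) = ⊥) {k n m : ℕ} (hk : Nat.card (Cfsg.Out N) = k)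
    (hn : 0 < n) (hm : n / n.gcd k = m) (h : ∀ x : N, orderOf x ≠ m) (z : Q) : orderOf z ≠ n := by
  intro hz
  have h1 := pow_mem_of_out hC z
  rw [hk] at h1
  refine h ⟨_, h1⟩ ?_
  have hfin : IsOfFinOrder z := by rw [← orderOf_pos_iff, hz]; exact hn
  rw [Subgroup.orderOf_mk, hfin.orderOf_pow, hz, hm]

omit [IsSimpleGroup N] in
/-- automorphisms -/
theorem orderOf_ne_of_aut (hC : centralizer (N : Set Q) = ⊥) {n : ℕ} (h : ∀ α : MulAut N, orderOf α ≠ n) (z : Q) :
    orderOf z ≠ n := by
  intro hz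
  have hinj : Function.Injective (MulAut.conjNormal : Q →* MulAut N) := by
    rw [injective_iff_map_eq_one]
    intro g hg
    rw [← mem_bot, ← hC, mem_centralizer_iff]
    intro a ha
    have h1 := congrArg Subtype.val (DFunLike.congr_fun hg ⟨a, ha⟩)
    rw [MulAut.conjNormal_apply, MulAut.one_apply] at h1
    exact (mul_inv_eq_iff_eq_mul.1 h1).symm
  exact h _ (by rw [orderOf_injective _ hinj, hz])

/-- adjacent primes in `PSL` -/
theorem psl_adj {S : Type} [Group S] {F : Type} [Field F] [Fintype F] {p f n : ℕ} [Fact p.Prime] [CharP F p]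
    (hF : Fintype.card F = p ^ f) (hn : 3 ≤ n) (e : S ≃* Matrix.ProjectiveSpecialLinearGroup (Fin n) F)
    {r s : ℕ} (hr : r.Prime) (hs : s.Prime) (hr2 : r ≠ 2) (hs2 : s ≠ 2) (hrp : r ≠ p) (hsp : s ≠ p) (hrs : r ≠ s)
    (h1 : r ∣ Nat.card S) (h2 : s ∣ Nat.card S) {k l : ℕ} (hk : orderOf (((p ^ f : ℕ) : ℕ) : ZMod r) = k)
    (hl : orderOf (((p ^ f : ℕ) : ℕ) : ZMod s) = l) (h2k : 2 ≤ k) (hkl : k ≤ l) (hd : k ∣ l) :
    ∃ x : S, orderOf x = r * s := by
  have hc : Nat.card S = Nat.card (Matrix.ProjectiveSpecialLinearGroup (Fin n) F) := Nat.card_congr e.toEquiv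
  rw [hc] at h1 h2
  have h := S2468.result (F := F) p n (by omega) (by omega) r s hr hs hr2 hs2 hrp hsp hrs h1 h2 k l
    (by rw [hF, hk]) (by rw [hF, hl]) h2k hkl
  by_contra hcon
  have h3 : r * s ∉ Set.range (orderOf : Matrix.ProjectiveSpecialLinearGroup (Fin n) F → ℕ) := by
    rintro ⟨y, hy⟩
    exact hcon ⟨e.symm y, by rw [MulEquiv.orderOf_eq, hy]⟩
  exact (h.1 h3).2 hd

theorem surv17 : (surv 3311126603366400 lF 17 [7]).all
    (fun g => g == .psl 4 4 || g == .psl 3 16 || g == .psp 4 2 || g == .ominus 4 2) = true := by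
  decide +kernel

theorem surv13 : ((surv 3311126603366400 lF 13 [5]).filter fun g => ordN g % 7 == 0).all
    (fun g => g == .psl 3 16 || g == .psl 2 64 || g == .psl 3 9 || g == .psp 2 8 || g == .g2 4 || g == .sz 8) = true := by
  decide +kernel

/-- **The prime 17: no elements of order 16.** -/
theorem main17 (hna : ¬ ∀ a b : N, a * b = b * a) (hC : centralizer (N : Set Q) = ⊥) {g : Grp}
    (hg : g ∈ surv 3311126603366400 lF 17 [7]) (hr : Real g N) (hc : Nat.card N = ordN g)
    (h13 : ¬ 13 ∣ Nat.card Q) (h85 : ∀ z : Q, orderOf z ≠ 17 * 5) (z : Q) : orderOf z ≠ 16 := by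
  have hnc : ¬ IsMulCommutative N := fun h => hna fun a b => h.is_comm.comm a b
  have h1 := surv17
  rw [List.all_eq_true] at h1
  have h2 := h1 g hg
  simp only [Bool.or_eq_true, beq_iff_eq] at h2
  rcases h2 with ((rfl | rfl) | rfl) | rfl
  · exfalso
    obtain ⟨F, _, _, hF, ⟨e⟩⟩ := hr
    have f2 : Fact (Nat.Prime 2) := ⟨Nat.prime_two⟩
    have hF' : Fintype.card F = 2 ^ 2 := by rw [hF]; norm_num
    have := charP_two_of hF'
    have o5 : orderOf (((2 ^ 2 : ℕ) : ℕ) : ZMod 5) = 2 := by
      rw [orderOf_eq_prime_iff (p := 2)]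
      exact ⟨by decide, by decide⟩
    have o17 : orderOf (((2 ^ 2 : ℕ) : ℕ) : ZMod 17) = 4 := by
      have : (4 : ℕ) = 2 ^ (1 + 1) := by norm_num
      rw [this]
      exact orderOf_eq_prime_pow (by decide) (by decide)
    obtain ⟨x, hx⟩ := psl_adj hF' (by norm_num) e (r := 5) (s := 17) (by norm_num) (by norm_num) (by norm_num)
      (by norm_num) (by norm_num) (by norm_num) (by norm_num) (by rw [hc]; decide +kernel)
      (by rw [hc]; decide +kernel) o5 o17 (by norm_num) (by norm_num) (by norm_num)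
    exact h85 x (by rw [Subgroup.orderOf_coe, hx])
  · exact absurd ((show 13 ∣ Nat.card N by rw [hc]; decide +kernel).trans (Subgroup.card_subgroup_dvd_card N)) h13
  · obtain ⟨F, _, _, hF, ⟨e⟩⟩ := hr
    have hs : IsSimpleGroup (PSp 4 F) := (MulEquiv.isSimpleGroup_congr e).1 inferInstance
    have hn : ¬ IsMulCommutative (PSp 4 F) := fun h => hna fun a b => e.injective (by
      rw [map_mul, map_mul]; exact h.is_comm.comm _ _)
    have ho : Nat.card (Cfsg.Out N) = 1 := by
      rw [H934.OutB.card_out_congr e, H907.ExtFree.card_out_psp (p := 2) (f := 1) Nat.prime_two le_rfl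
        (by rw [hF]; norm_num) (by norm_num) (by norm_num) hs hn]
      norm_num
    exact orderOf_ne_of_out hC ho (by norm_num) (m := 16) (by norm_num) (no16_psp hF e) z
  · obtain ⟨F, _, _, a, b, hF, hab, ⟨e⟩⟩ := hr
    exact orderOf_ne_of_aut hC (no16_ominus hF hab e) z

/-- **The prime 13: no elements of order 16, or none of order 28.** -/
theorem main13 (hna : ¬ ∀ a b : N, a * b = b * a) (hC : centralizer (N : Set Q) = ⊥) {g : Grp}
    (hg : g ∈ surv 3311126603366400 lF 13 [5]) (h7 : 7 ∣ Nat.card N) (hr : Real g N) (hc : Nat.card N = ordN g)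
    (h17 : ¬ 17 ∣ Nat.card Q) (h91 : ∀ z : Q, orderOf z ≠ 13 * 7) :
    (∀ z : Q, orderOf z ≠ 16) ∨ ∀ z : Q, orderOf z ≠ 28 := by
  have hnc : ¬ IsMulCommutative N := fun h => hna fun a b => h.is_comm.comm a b
  have h1 := surv13
  rw [List.all_eq_true] at h1
  have h2 := h1 g (List.mem_filter.2 ⟨hg, by rw [← hc, Nat.mod_eq_zero_of_dvd h7]; rfl⟩)
  simp only [Bool.or_eq_true, beq_iff_eq] at h2
  have f2 : Fact (Nat.Prime 2) := ⟨Nat.prime_two⟩
  rcases h2 with ((((rfl | rfl) | rfl) | rfl) | rfl) | rfl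
  · exact absurd ((show 17 ∣ Nat.card N by rw [hc]; decide +kernel).trans (Subgroup.card_subgroup_dvd_card N)) h17
  · obtain ⟨F, _, _, hF, ⟨e⟩⟩ := hr
    have ho : Nat.card (Cfsg.Out N) = 6 := by
      rw [H934.OutB.card_out_congr e, H60.HalfPsl.card_out (p := 2) (f := 6) (by norm_num) (by rw [hF]; norm_num)
        (by norm_num)]
      norm_num
    exact Or.inl fun z => orderOf_ne_of_out hC ho (by norm_num) (m := 8) (by norm_num) (no8_psl hF e) z
  · exfalso
    obtain ⟨F, _, _, hF, ⟨e⟩⟩ := hr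
    have f3 : Fact (Nat.Prime 3) := ⟨Nat.prime_three⟩
    have hF' : Fintype.card F = 3 ^ 2 := by rw [hF]; norm_num
    have : CharP F 3 := charP_of_card_eq_prime_pow hF'
    have o7 : orderOf (((3 ^ 2 : ℕ) : ℕ) : ZMod 7) = 3 := by
      rw [orderOf_eq_prime_iff (p := 3)]
      exact ⟨by decide, by decide⟩
    have o13 : orderOf (((3 ^ 2 : ℕ) : ℕ) : ZMod 13) = 3 := by
      rw [orderOf_eq_prime_iff (p := 3)]
      exact ⟨by decide, by decide⟩
    obtain ⟨x, hx⟩ := psl_adj hF' (by norm_num) e (r := 13) (s := 7) (by norm_num) (by norm_num) (by norm_num)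
      (by norm_num) (by norm_num) (by norm_num) (by norm_num) (by rw [hc]; decide +kernel)
      (by rw [hc]; decide +kernel) o13 o7 (by norm_num) (by norm_num) (by norm_num)
    exact h91 x (by rw [Subgroup.orderOf_coe, hx])
  · obtain ⟨F, _, _, hF, ⟨e⟩⟩ := hr
    have ho : Nat.card (Cfsg.Out N) = 6 := by
      rw [H934.OutB.card_out_congr e, (Cfsg.Agent.S2600.result (F := F) (f := 3) (by norm_num)
        (by rw [hF]; norm_num)).2]
    exact Or.inl fun z => orderOf_ne_of_out hC ho (by norm_num) (m := 8) (by norm_num) (no8_psp hF e) z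
  · obtain ⟨F, _, _, hF, ⟨e⟩⟩ := hr
    have hF' : Fintype.card F = 2 ^ 2 := by rw [hF]; norm_num
    have := charP_two_of hF'
    have ho : Nat.card (Cfsg.Out N) = 2 := by
      rw [H934.OutB.card_out_congr e, Cfsg.Agent.S2121.result (F := F) 2 2 hF' (by norm_num)]
      norm_num
    have hfin : Finite ↥(Lie.chevG2.group F) := inferInstance
    have hcyc := card_G2_3 (F := F) (q := 4) hF (m := 21) (by norm_num) (r := 7) (by norm_num) (by norm_num) (by norm_num)
    exact Or.inr fun z => orderOf_ne_of_out hC ho (by norm_num) (m := 14) (by norm_num) (fun x => by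
      rw [← MulEquiv.orderOf_eq e]
      exact no_ord (v := 7) (p := 2) (by norm_num) Nat.prime_two (by norm_num) hcyc _) z
  · obtain ⟨F, _, _, m, hm, hF, hm2, ⟨e⟩⟩ := hr
    have hm1 : m = 1 := by
      have h8 : 2 ^ 3 = 2 ^ (2 * m + 1) := hm2
      have := Nat.pow_right_injective (le_refl 2) h8
      omega
    subst hm1
    have ho : Nat.card (Cfsg.Out N) = 3 := by
      rw [H934.OutB.card_out_congr e, Cfsg.Agent.S2126.result (F := F) (m := 1) le_rfl (by rw [hF]; norm_num)]
    exact Or.inl fun z => orderOf_ne_of_out hC ho (by norm_num) (m := 16) (by norm_num) (no16_sz hF e) z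

end Main

end Cfsg.Agent.H622.Der
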