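import Cfsg.Agent.H439.Der.Tools
import Cfsg.Agent.H946.NormCard
import Cfsg.Agent.H129.CycCardF
import Cfsg.Agent.H129.CycRow

/-!
# One class of derangements (S3500): cyclic tori (helper622)

* `card_norm` : an isolated torus of prime order `v`, `|T| = v K`, `K ≡ n mod v`: `|N(⟨x⟩)| = v n`
* `not_SC_of_cyc` : `CycCard T v m 1` with `m ≠ v` or `|Out T| n < v - 1`: not `SC T v`
* `twoT_of_norm` : two `T`-classes of elements of order `v`, `v ∤ |M|`
* `twoT_of_class`, `two_of_class` : an element of order divisible by `v ∤ |M|` and another missing class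
* `nsyl_of_dvd` : `NoSyl` if `|Out T|` is a power of the prime `s`
-/

set_option autoImplicit false

namespace Cfsg.Agent.H622.Der

open Subgroup Cfsg.Agent.H439.Der Cfsg.Agent.H938.Sax
open Cfsg.Agent.H129.CycCard (CycCard)
open Cfsg.Agent.H129.CycT (CycExact)

variable {T : Type*} [Group T]

theorem exists_gen {v m : ℕ} (h : CycCard T v m 1) : v ∣ m ∧ ∃ g : T, orderOf g = m := by
  obtain ⟨C, hc, h1, h2, h3, -⟩ := h
  rw [one_mul] at h2
  have hm : Nat.card ↥C = m := Nat.dvd_antisymm h1 h2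
  obtain ⟨g, hg⟩ := IsCyclic.exists_ofOrder_eq_natCard (α := ↥C)
  exact ⟨hm ▸ h3, g, by rw [Subgroup.orderOf_coe, hg, hm]⟩

/-- the normaliser of an isolated torus of prime order -/
theorem card_norm [Finite T] {v : ℕ} (hv : v.Prime) (h : CycCard T v v 1) {K n : ℕ} (hK : Nat.card T = v * K)
    (hn : K ≡ n [MOD v]) (h0 : 0 < n) (hlt : n < v) :
    ∃ x : T, orderOf x = v ∧ Nat.card (centralizer ({x} : Set T)) = v ∧
      Nat.card (normalizer (zpowers x : Set T)) = v * n := by
  obtain ⟨C, hc, h1, h2, h3, h4⟩ := h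
  rw [one_mul] at h2
  have hm : Nat.card ↥C = v := Nat.dvd_antisymm h1 h2
  obtain ⟨g, hg⟩ := IsCyclic.exists_ofOrder_eq_natCard (α := ↥C)
  have hg' : orderOf (g : T) = v := by rw [Subgroup.orderOf_coe, hg, hm]
  have hC : centralizer ({(g : T)} : Set T) = C :=
    le_antisymm (h4 g g.2 hg') (Cfsg.Agent.H129.CycT.le_centralizer_of_cyclic hc g.2)
  have hvK : ¬ v ∣ K := by
    intro hd
    have h5 : n ≡ 0 [MOD v] := hn.symm.trans (Nat.modEq_zero_iff_dvd.2 hd)
    have h6 := Nat.le_of_dvd h0 (Nat.modEq_zero_iff_dvd.1 h5)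
    omega
  refine ⟨g, hg', by rw [hC, hm], ?_⟩
  exact Cfsg.Agent.H946.Rad.card_normalizer hv hg' (by rw [hC]; exact hc) (by rw [hC, hm]) hK hvK hn h0 hlt

/-- a cyclic torus of order `m`: not all `v`-singular elements are conjugate -/
theorem not_SC_of_cyc [Finite T] {v m : ℕ} (hv : v.Prime) (h : CycCard T v m 1) {K n o : ℕ}
    (hK : Nat.card T = m * K) (hn : K ≡ n [MOD v]) (h0 : 0 < n) (hO : Nat.card (Cfsg.Out T) ≤ o)
    (hlt : m = v → o * n < v - 1) : ¬ SC T v := by
  obtain ⟨h1, g, hg⟩ := exists_gen h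
  by_cases hm : m = v
  · subst hm
    have h2 := hlt rfl
    have hO1 : 0 < Nat.card (Cfsg.Out T) := by
      have : Finite (MulAut T) := Finite.of_injective (fun f : MulAut T => (f : T → T)) DFunLike.coe_injective
      exact Nat.card_pos
    have h3 : n ≤ o * n := Nat.le_mul_of_pos_left n (by omega)
    obtain ⟨x, hx, hx1, hx2⟩ := card_norm hv h hK hn h0 (by omega)
    exact not_SC_of_lt hv hx hx1 (n := n) (by rw [hx2, mul_comm]) hO h2
  · exact not_SC_of_orderOf hv (hg ▸ h1) (by rw [hg]; exact hm)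

/-- `v ∤ |M|` and two `T`-classes of elements of order `v` -/
theorem twoT_of_norm [Finite T] {M : Subgroup T} {v : ℕ} (hv : v.Prime) (hvM : ¬ v ∣ Nat.card M) {x : T}
    (hx : orderOf x = v) {c n : ℕ} (hC : Nat.card (centralizer ({x} : Set T)) = c)
    (hN : Nat.card (normalizer (zpowers x : Set T)) ≤ n * c) (h : n < v - 1) : TwoT T M := by
  classical
  have h2 := card_conjPow_mul x
  rw [hC] at h2
  have hc : 0 < c := by rw [← hC]; exact Nat.card_pos
  have h3 : Nat.card (conjPow x) ≤ n := by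
    by_contra hlt
    push Not at hlt
    have : n * c < Nat.card (conjPow x) * c := Nat.mul_lt_mul_of_pos_right hlt hc
    omega
  -- an element of `⟨x⟩` not conjugate to `x`
  obtain ⟨y, hy, hy1, hyc⟩ : ∃ y ∈ zpowers x, y ≠ 1 ∧ y ∉ conjPow x := by
    by_contra hcon
    push Not at hcon
    have := Fintype.ofFinite T
    let P : Finset T := (Finset.univ.filter fun y => y ∈ zpowers x).erase 1
    have hP : P.card = v - 1 := by
      rw [Finset.card_erase_of_mem (by simp), ← hx, ← Nat.card_zpowers, Nat.card_eq_fintype_card,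
        Fintype.card_subtype]
    have hsub : (P : Set T) ⊆ conjPow x := by
      intro y hy
      rw [Finset.mem_coe, Finset.mem_erase, Finset.mem_filter] at hy
      exact hcon y hy.2.2 hy.1
    have h4 : (P : Set T).ncard ≤ (conjPow x).ncard := Set.ncard_le_ncard hsub (Set.toFinite _)
    rw [Set.ncard_coe_finset, hP, ← Nat.card_coe_set_eq] at h4
    omega
  have hyv : orderOf y = v := by
    have h1 : orderOf y ∣ v := by
      rw [← hx]
      exact orderOf_dvd_of_mem_zpowers hy
    rcases (Nat.dvd_prime hv).1 h1 with h2 | h2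
    · exact absurd (orderOf_eq_one_iff.1 h2) hy1
    · exact h2
  refine ⟨x, y, fun g => ?_, fun g => ?_, fun g hg => hyc ⟨hy, g, hg⟩⟩
  · exact not_mem_of_dvd hvM (by rw [hx]) (MulAut.conj g)
  · exact not_mem_of_dvd hvM (by rw [hyv]) (MulAut.conj g)

/-- a missing prime and another missing class, `T`-version -/
theorem twoT_of_class {M : Subgroup T} {v : ℕ} (hvM : ¬ v ∣ Nat.card M) {x y : T} (hx : v ∣ orderOf x)
    (hy : ¬ v ∣ orderOf y) (hyM : ∀ g : T, g * y * g⁻¹ ∉ M) : TwoT T M := by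
  refine ⟨x, y, fun g => not_mem_of_dvd hvM hx (MulAut.conj g), hyM, fun g hg => hy ?_⟩
  rw [← hg, orderOf_conj]
  exact hx

/-- a missing number and another missing class -/
theorem two_of_class {M : Subgroup T} {v : ℕ} (hvM : ¬ v ∣ Nat.card M) {x y : T} (hx : v ∣ orderOf x)
    (hy : ¬ v ∣ orderOf y) (hyM : ∀ φ : T ≃* T, φ y ∉ M) : Two T M := by
  refine ⟨x, y, fun g => not_mem_of_dvd hvM hx g, hyM, fun φ hφ => hy ?_⟩
  rw [← hφ, orderOf_mulEquiv]
  exact hx

/-- `NoSyl` if `|Out T|` divides a power of `s` -/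
theorem noSyl_of [Finite T] {M : Subgroup T} {s k e : ℕ} (hs : s.Prime) (hO : Nat.card (Cfsg.Out T) ∣ s ^ k)
    (he : s ^ e ∣ Nat.card T) (hM : ¬ s ^ e ∣ Nat.card M) : NoSyl T M := by
  intro r hr hd h1
  obtain rfl := (Nat.prime_dvd_prime_iff_eq hr hs).1 (hr.dvd_of_dvd_pow (hd.trans hO))
  exact hM ((pow_dvd_pow r ((hr.pow_dvd_iff_le_factorization Nat.card_pos.ne').1 he)).trans h1)

/-- the centraliser of an element of order `v` -/
theorem cent_dvd [Finite T] {v m : ℕ} (hv : v.Prime) (h : CycCard T v m 1) {x : T} (hx : orderOf x = v) :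
    Nat.card (centralizer ({x} : Set T)) ∣ m := by
  obtain ⟨C, h1, h0, -, h2, h3⟩ := h
  obtain ⟨f, hf⟩ := Cfsg.Agent.H129.CycT.exists_hom h1 hv h2 h3 hx
  exact (Subgroup.card_dvd_of_injective f hf.1).trans h0

/-- no element of order `v p` if `p ∤ m` -/
theorem no_ord [Finite T] {v m p : ℕ} (hv : v.Prime) (hp : p.Prime) (hpm : ¬ p ∣ m) (h : CycCard T v m 1) (z : T) :
    orderOf z ≠ v * p := by
  intro hz
  have h1 : orderOf (z ^ p) = v := by
    rw [orderOf_pow_of_dvd hp.ne_zero (by rw [hz]; exact dvd_mul_left _ _), hz, Nat.mul_div_cancel _ hp.pos]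
  have h2 := cent_dvd hv h h1
  have h3 : z ∈ centralizer ({z ^ p} : Set T) := by
    rw [mem_centralizer_singleton_iff]
    exact (Commute.self_pow z p).eq
  have h4 := (Subgroup.orderOf_dvd_natCard _ h3).trans h2
  rw [hz] at h4
  exact hpm ((dvd_mul_left p v).trans h4)

end Cfsg.Agent.H622.Der
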