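import Cfsg.Agent.OrdDiv.Main
import Cfsg.Agent.AutOrth.Main
import Cfsg.Agent.S2600
import Cfsg.Agent.S2121
import Cfsg.Agent.S2126
import Cfsg.Agent.H907.ExtFree
import Cfsg.Agent.H60.HalfPsl
import Cfsg.Agent.H257.El.Top

/-!
# S3502: elements of order 16, 28 in almost simple groups with small socle in characteristic 2 (helper622)

* `exists_odd` : `M ^ (2 ^ k b) = 1`, `b` odd, for `M ∈ GL n F`, `char F = 2`, `n ≤ 2 ^ k`
* `pow_mem_of_out` : `t ^ |Out N| ∈ N` for `N` simple normal with trivial centralizer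
-/

set_option autoImplicit false

namespace Cfsg.Agent.H622.Der

open Subgroup Cfsg Cfsg.Agent.OrdDiv

universe u

section Lin

variable {n : Type*} [Fintype n] [DecidableEq n] {F : Type*} [Field F]

theorem pow_card_of_nilpotent {N : Matrix n n F} (h : IsNilpotent N) : N ^ Fintype.card n = 0 := by
  have h1 := Matrix.isNilpotent_charpoly_sub_pow_of_isNilpotent h
  have h2 : N.charpoly = Polynomial.X ^ Fintype.card n := by
    have := h1.eq_zero
    exact sub_eq_zero.1 this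
  have h3 := Matrix.aeval_self_charpoly N
  rw [h2] at h3
  simpa using h3

/-- an invertible matrix of size `n ≤ 2 ^ k` in characteristic 2: `M ^ (2 ^ k b) = 1`, `b` odd -/
theorem exists_odd [CharP F 2] {k : ℕ} (hn : Fintype.card n ≤ 2 ^ k) (M : Matrix n n F) {N : ℕ} (hN : N ≠ 0)
    (hM : M ^ N = 1) : ∃ b : ℕ, Odd b ∧ M ^ (2 ^ k * b) = 1 := by
  obtain ⟨a, b, hb, hab⟩ := Nat.exists_eq_two_pow_mul_odd hN
  refine ⟨b, hb, ?_⟩
  have hS : (M ^ b) ^ 2 ^ a = 1 := by
    rw [← pow_mul, mul_comm, ← hab, hM]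
  rcases isEmpty_or_nonempty n with hemp | hne
  · ext i
    exact hemp.elim i
  · have h2 : Fact (Nat.Prime 2) := ⟨Nat.prime_two⟩
    have hch : CharP (Matrix n n F) 2 := inferInstance
    have h3 : (M ^ b - 1) ^ 2 ^ a = 0 := by
      rw [sub_pow_char_pow_of_commute _ _ (Commute.one_right _), hS, one_pow, sub_self]
    have h4 := pow_card_of_nilpotent ⟨_, h3⟩
    have h5 : (M ^ b - 1) ^ 2 ^ k = 0 := pow_eq_zero_of_le hn h4
    rw [sub_pow_char_pow_of_commute _ _ (Commute.one_right _), one_pow, sub_eq_zero] at h5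
    rw [mul_comm, pow_mul, h5]

/-- no element of order `2 ^ j` -/
theorem orderOf_ne {G S : Type*} [Group G] [Group S] {π : G →* S} (hπ : Function.Surjective π) {k : ℕ}
    (h : ∀ g : G, ∃ b : ℕ, Odd b ∧ g ^ (2 ^ k * b) = 1) {j : ℕ} (hj : k < j) (x : S) : orderOf x ≠ 2 ^ j := by
  intro hx
  obtain ⟨g, rfl⟩ := hπ x
  obtain ⟨b, hb, h1⟩ := h g
  have h2 : (π g) ^ (2 ^ k * b) = 1 := by rw [← map_pow, h1, map_one]
  have h3 := orderOf_dvd_of_pow_eq_one h2
  rw [hx] at h3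
  have h4 : 2 ^ k * 2 ∣ 2 ^ k * b := by
    rw [← pow_succ]
    exact (pow_dvd_pow 2 hj).trans h3
  have h5 := Nat.dvd_of_mul_dvd_mul_left (by positivity) h4
  exact (Nat.not_even_iff_odd.2 hb) (even_iff_two_dvd.2 h5)

variable [Fintype F]

theorem charP_two_of {f : ℕ} (hF : Fintype.card F = 2 ^ f) : CharP F 2 := by
  obtain ⟨p, hp⟩ := CharP.exists F
  have hpp : p.Prime := CharP.char_is_prime F p
  have h1 : p ∣ Fintype.card F := (CharP.cast_eq_zero_iff F p _).1 (FiniteField.cast_card_eq_zero F)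
  rw [hF] at h1
  obtain rfl : p = 2 := (Nat.prime_dvd_prime_iff_eq hpp Nat.prime_two).1 (hpp.dvd_of_dvd_pow h1)
  exact hp

theorem sl_odd [CharP F 2] {k : ℕ} (hn : Fintype.card n ≤ 2 ^ k) (g : Matrix.SpecialLinearGroup n F) :
    ∃ b : ℕ, Odd b ∧ g ^ (2 ^ k * b) = 1 := by
  obtain ⟨b, hb, h⟩ := exists_odd hn (g : Matrix n n F) (N := orderOf g) (orderOf_pos g).ne' (by
    rw [← Matrix.SpecialLinearGroup.coe_pow, pow_orderOf_eq_one, Matrix.SpecialLinearGroup.coe_one])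
  refine ⟨b, hb, Subtype.ext ?_⟩
  rw [Matrix.SpecialLinearGroup.coe_pow, h, Matrix.SpecialLinearGroup.coe_one]

theorem gl_odd [CharP F 2] {k : ℕ} (hn : Fintype.card n ≤ 2 ^ k) (g : Matrix.GeneralLinearGroup n F) :
    ∃ b : ℕ, Odd b ∧ g ^ (2 ^ k * b) = 1 := by
  obtain ⟨b, hb, h⟩ := exists_odd hn (g : Matrix n n F) (N := orderOf g) (orderOf_pos g).ne' (by
    rw [← Units.val_pow_eq_pow_val, pow_orderOf_eq_one, Units.val_one])
  refine ⟨b, hb, Units.ext ?_⟩
  rw [Units.val_pow_eq_pow_val, h, Units.val_one]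

theorem sp_odd [CharP F 2] {m k : ℕ} (hn : 2 * m ≤ 2 ^ k) (g : Matrix.symplecticGroup (Fin m) F) :
    ∃ b : ℕ, Odd b ∧ g ^ (2 ^ k * b) = 1 := by
  have hfin : Finite (Matrix.symplecticGroup (Fin m) F) := inferInstance
  obtain ⟨b, hb, h⟩ := exists_odd (k := k) (by simp; omega) (g : Matrix (Fin m ⊕ Fin m) (Fin m ⊕ Fin m) F)
    (N := orderOf g) (orderOf_pos g).ne' (by
    rw [← SubmonoidClass.coe_pow, pow_orderOf_eq_one]; rfl)
  refine ⟨b, hb, Subtype.ext ?_⟩
  rw [SubmonoidClass.coe_pow, h]; rfl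

end Lin

section Names

/-- no element of order 8 in `PSL₂(64)` -/
theorem no8_psl {S : Type*} [Group S] {F : Type*} [Field F] [Fintype F] (hF : Fintype.card F = 64)
    (e : S ≃* Matrix.ProjectiveSpecialLinearGroup (Fin 2) F) (x : S) : orderOf x ≠ 8 := by
  have := charP_two_of (f := 6) (by rw [hF]; norm_num)
  rw [← MulEquiv.orderOf_eq e]
  exact orderOf_ne (π := QuotientGroup.mk' _) (QuotientGroup.mk'_surjective _)
    (fun g => sl_odd (k := 1) (by simp) g) (j := 3) (by norm_num) (e x)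

/-- no element of order 8 in `PSp₄(8)` -/
theorem no8_psp {S : Type*} [Group S] {F : Type*} [Field F] [Fintype F] (hF : Fintype.card F = 8)
    (e : S ≃* PSp 2 F) (x : S) : orderOf x ≠ 8 := by
  have := charP_two_of (f := 3) (by rw [hF]; norm_num)
  rw [← MulEquiv.orderOf_eq e]
  exact orderOf_ne (π := QuotientGroup.mk' _) (QuotientGroup.mk'_surjective _)
    (fun g => sp_odd (k := 2) (by norm_num) g) (j := 3) (by norm_num) (e x)

/-- no element of order 16 in `PSp₈(2)` -/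
theorem no16_psp {S : Type*} [Group S] {F : Type*} [Field F] [Fintype F] (hF : Fintype.card F = 2)
    (e : S ≃* PSp 4 F) (x : S) : orderOf x ≠ 16 := by
  have := charP_two_of (f := 1) (by rw [hF]; norm_num)
  rw [← MulEquiv.orderOf_eq e]
  exact orderOf_ne (π := QuotientGroup.mk' _) (QuotientGroup.mk'_surjective _)
    (fun g => sp_odd (k := 3) (by norm_num) g) (j := 4) (by norm_num) (e x)

/-- no element of order 16 in `Sz(8)` -/
theorem no16_sz {S : Type*} [Group S] {F : Type*} [Field F] [Fintype F] (hF : Fintype.card F = 8) {m : ℕ}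
    (e : S ≃* ↥(Lie.Sz F m)) (x : S) : orderOf x ≠ 16 := by
  have := charP_two_of (f := 3) (by rw [hF]; norm_num)
  rw [← MulEquiv.orderOf_eq e]
  refine orderOf_ne (π := MonoidHom.id _) Function.surjective_id (fun g => ?_) (k := 2) (j := 4) (by norm_num) (e x)
  obtain ⟨b, hb, h⟩ := gl_odd (k := 2) (by simp) (g : Matrix.GeneralLinearGroup (Fin 4) F)
  exact ⟨b, hb, Subtype.ext (by rw [SubgroupClass.coe_pow, h]; rfl)⟩

open Cfsg.Agent.LieClassical.OrthFinite in
/-- no automorphism of order 16 of `PΩ₈⁻(2)` -/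
theorem no16_ominus {S : Type*} [Group S] {F : Type*} [Field F] [Fintype F] (hF : Fintype.card F = 2) {a b : F}
    (hab : ∀ z₁ z₂ : F, z₁ ^ 2 + a * z₁ * z₂ + b * z₂ ^ 2 = 0 → z₁ = 0 ∧ z₂ = 0)
    (e : S ≃* POmega F (quadFormMinus 3 F a b)) (α : MulAut S) : orderOf α ≠ 16 := by
  classical
  have := charP_two_of (f := 1) (by rw [hF]; norm_num)
  have hel : ∀ c : F, c = 0 ∨ c = 1 := by
    intro c
    by_contra hcon
    push Not at hcon
    have h1 : ({0, 1, c} : Finset F).card = 3 := by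
      rw [Finset.card_eq_three]
      exact ⟨0, 1, c, zero_ne_one, hcon.1.symm, hcon.2.symm, rfl⟩
    have h2 := Finset.card_le_univ ({0, 1, c} : Finset F)
    rw [h1, hF] at h2
    omega
  set β : MulAut (POmega F (quadFormMinus 3 F a b)) := MulAut.congr e α with hβ
  have hαβ : orderOf β = orderOf α := MulEquiv.orderOf_eq (MulAut.congr e) α
  rw [← hαβ]
  obtain ⟨σ, μ, T, ⟨hμ, hT, hQ⟩, h⟩ := Cfsg.Agent.AutOrth.Main.all_minus (m := 3) le_rfl hab β
  have hμ1 : μ = 1 := (hel μ).resolve_left hμ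
  have hσ : ∀ c, σ c = c := by
    intro c
    rcases hel c with rfl | rfl
    · exact map_zero σ
    · exact map_one σ
  let Tl : ((Fin 3 ⊕ Fin 3) ⊕ Fin 2 → F) ≃ₗ[F] ((Fin 3 ⊕ Fin 3) ⊕ Fin 2 → F) :=
    { T with map_smul' := fun c v => by rw [RingHom.id_apply]; exact (hT c v).trans (by rw [hσ]; rfl) }
  obtain ⟨t0, ht0⟩ := (glEquiv ((Fin 3 ⊕ Fin 3) ⊕ Fin 2) F).surjective Tl
  have ht : ∀ v, Matrix.mulVec (t0 : Matrix _ _ F) v = T v := by
    intro v
    have h1 := DFunLike.congr_fun ht0 v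
    exact h1
  let t : isometryGroup F (quadFormMinus 3 F a b) := ⟨t0, fun u v => by
    show quadFormMinus 3 F a b (Matrix.mulVec (t0 : Matrix _ _ F) u) = _
    rw [ht, hQ, hμ1, hσ, one_mul]⟩
  let γ : isometryGroup F (quadFormMinus 3 F a b) →* MulAut (Omega F (quadFormMinus 3 F a b)) := MulAut.conjNormal
  have key : ∀ g : Omega F (quadFormMinus 3 F a b), β (QuotientGroup.mk g) = QuotientGroup.mk (γ t g) := by
    intro g
    refine h g (γ t g) fun v => ?_
    rw [← ht, ← ht, Matrix.mulVec_mulVec, Matrix.mulVec_mulVec]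
    congr 1
    have h1 : ((γ t g : Omega F (quadFormMinus 3 F a b)) : isometryGroup F (quadFormMinus 3 F a b)) * t = t * g := by
      rw [MulAut.conjNormal_apply, inv_mul_cancel_right]
    have h2 := congrArg (fun x : isometryGroup F (quadFormMinus 3 F a b) =>
      ((x : Matrix.GeneralLinearGroup ((Fin 3 ⊕ Fin 3) ⊕ Fin 2) F) :
        Matrix ((Fin 3 ⊕ Fin 3) ⊕ Fin 2) ((Fin 3 ⊕ Fin 3) ⊕ Fin 2) F)) h1
    exact h2
  have key2 : ∀ (n : ℕ) (g : Omega F (quadFormMinus 3 F a b)),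
      (β ^ n) (QuotientGroup.mk g) = QuotientGroup.mk ((γ (t ^ n)) g) := by
    intro n
    induction n with
    | zero => intro g; rw [pow_zero, pow_zero, map_one]; rfl
    | succ n ih =>
      intro g
      rw [pow_succ, pow_succ, map_mul, MulAut.mul_apply, MulAut.mul_apply, key, ih]
  obtain ⟨c, hc, h1⟩ := gl_odd (n := (Fin 3 ⊕ Fin 3) ⊕ Fin 2) (k := 3) (by simp) t0
  have h2 : t ^ (2 ^ 3 * c) = 1 := Subtype.ext (by rw [SubgroupClass.coe_pow]; exact h1)
  have h3 : β ^ (2 ^ 3 * c) = 1 := by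
    ext x
    obtain ⟨g, rfl⟩ := QuotientGroup.mk_surjective x
    rw [key2, h2, map_one]
    rfl
  intro h4
  have h5 := orderOf_dvd_of_pow_eq_one h3
  rw [h4] at h5
  have h6 : 2 ^ 3 * 2 ∣ 2 ^ 3 * c := h5
  have h7 := Nat.dvd_of_mul_dvd_mul_left (by norm_num) h6
  exact (Nat.not_even_iff_odd.2 hc) (even_iff_two_dvd.2 h7)

end Names

section Out

/-- `t ^ |Out N| ∈ N` -/
theorem pow_mem_of_out {Q : Type*} [Group Q] {N : Subgroup Q} [N.Normal]
    (hC : centralizer (N : Set Q) = ⊥) (t : Q) : t ^ Nat.card (Cfsg.Out N) ∈ N := by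
  let φ : Q →* MulAut N := MulAut.conjNormal
  have h1 : (QuotientGroup.mk (φ t) : Cfsg.Out N) ^ Nat.card (Cfsg.Out N) = 1 := pow_card_eq_one'
  rw [← QuotientGroup.mk_pow, QuotientGroup.eq_one_iff] at h1
  obtain ⟨n, hn⟩ := h1
  have h2 : (n : Q)⁻¹ * t ^ Nat.card (Cfsg.Out N) ∈ centralizer (N : Set Q) := by
    rw [mem_centralizer_iff]
    intro m hm
    have h3 := DFunLike.congr_fun hn ⟨m, hm⟩
    rw [← map_pow] at h3
    have h4 : (n : Q) * m * (n : Q)⁻¹ = t ^ Nat.card (Cfsg.Out N) * m * (t ^ Nat.card (Cfsg.Out N))⁻¹ :=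
      congrArg Subtype.val h3
    generalize t ^ Nat.card (Cfsg.Out N) = s at h4
    calc m * ((n : Q)⁻¹ * s) = (n : Q)⁻¹ * ((n : Q) * m * (n : Q)⁻¹) * s := by group
      _ = (n : Q)⁻¹ * s * m := by rw [h4]; group
  rw [hC, mem_bot, inv_mul_eq_one] at h2
  rw [← h2]
  exact n.2

end Out

end Cfsg.Agent.H622.Der
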